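import Groth.Agent.IsoNatSepLib.Main
import Groth.Agent.IsoNatCleanOpenLib.Main
import Groth.Agent.AlgSpLib.FormalLocal
import Groth.Agent.S3843

/-!
# Morphisms out of objects whose clean locus is schematically dense are unique
-/

set_option autoImplicit false
set_option linter.style.haveILetI false
set_option backward.isDefEq.respectTransparency false
set_option backward.isDefEq.respectTransparency.types false

universe u

open CategoryTheory CategoryTheory.Limits AlgebraicGeometry AlgSp FibCat FibLib AlgStLib IsoNat IsoNatLib IsoNatSepLib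
open CategoryTheory.Functor (Fiber IsPreFibered IsStronglyCartesian)

noncomputable section

namespace IsoNatBaldLib

variable {S : Scheme.{u}} {𝒳 : AlgSt.Cat S}

/-- A covering morphism. -/
def Cov {Z T : Over S} (c : Z ⟶ T) : Prop := Flat c.left ∧ LocallyOfFinitePresentation c.left ∧ Surjective c.left

lemma cov_comp {Z T R : Over S} {c : Z ⟶ T} {d : T ⟶ R} (hc : Cov c) (hd : Cov d) : Cov (c ≫ d) := by
  obtain ⟨_, _, _⟩ := hc
  obtain ⟨_, _, _⟩ := hd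
  exact ⟨inferInstanceAs (Flat (c.left ≫ d.left)), inferInstanceAs (LocallyOfFinitePresentation (c.left ≫ d.left)),
    inferInstanceAs (Surjective (c.left ≫ d.left))⟩

lemma cov_id (T : Over S) : Cov (𝟙 T) :=
  ⟨inferInstanceAs (Flat (𝟙 T.left)), inferInstanceAs (LocallyOfFinitePresentation (𝟙 T.left)),
    inferInstanceAs (Surjective (𝟙 T.left))⟩

/-- Fibre products of schemes over the base, with the properties of the projections. -/
theorem exists_pb {A B C : Over S} (f : A ⟶ C) (g : B ⟶ C) :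
    ∃ (P : Over S) (p : P ⟶ A) (q : P ⟶ B), p ≫ f = q ≫ g ∧
      (∀ (Z : Over S) (a : Z ⟶ A) (b : Z ⟶ B), a ≫ f = b ≫ g → ∃ n : Z ⟶ P, n ≫ p = a ∧ n ≫ q = b) ∧
      (Cov g → Cov p) ∧ (Smooth g.left → Smooth p.left) ∧ (Cov f → Cov q) ∧ (Smooth f.left → Smooth q.left) := by
  let P : Over S := Over.mk (pullback.fst f.left g.left ≫ A.hom)
  let p : P ⟶ A := Over.homMk (pullback.fst f.left g.left) rfl
  let q : P ⟶ B := Over.homMk (pullback.snd f.left g.left) (by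
    change pullback.snd f.left g.left ≫ B.hom = pullback.fst f.left g.left ≫ A.hom
    rw [← Over.w f, ← Over.w g, pullback.condition_assoc])
  have sq : IsPullback p.left q.left f.left g.left := IsPullback.of_hasPullback f.left g.left
  refine ⟨P, p, q, Over.OverMorphism.ext sq.w, fun Z a b h => ?_, fun hg => ?_, fun hg => ?_, fun hf => ?_,
    fun hf => ?_⟩
  · have h' : a.left ≫ f.left = b.left ≫ g.left := congrArg (fun m => m.left) h
    exact ⟨Over.homMk (sq.lift a.left b.left h') (by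
      change sq.lift a.left b.left h' ≫ p.left ≫ A.hom = Z.hom
      rw [← Category.assoc, sq.lift_fst, Over.w a]),
      Over.OverMorphism.ext (sq.lift_fst _ _ h'), Over.OverMorphism.ext (sq.lift_snd _ _ h')⟩
  · obtain ⟨_, _, _⟩ := hg
    exact ⟨MorphismProperty.of_isPullback (P := @Flat) sq.flip ‹_›,
      MorphismProperty.of_isPullback (P := @LocallyOfFinitePresentation) sq.flip ‹_›,
      MorphismProperty.of_isPullback (P := @Surjective) sq.flip ‹_›⟩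
  · exact MorphismProperty.of_isPullback (P := @Smooth) sq.flip hg
  · obtain ⟨_, _, _⟩ := hf
    exact ⟨MorphismProperty.of_isPullback (P := @Flat) sq ‹_›,
      MorphismProperty.of_isPullback (P := @LocallyOfFinitePresentation) sq ‹_›,
      MorphismProperty.of_isPullback (P := @Surjective) sq ‹_›⟩
  · exact MorphismProperty.of_isPullback (P := @Smooth) sq hf

lemma base_eq {A B : Over S} {g g' : A ⟶ B} {a b : 𝒳.obj} {φ : a ⟶ b} (h : 𝒳.p.IsHomLift g φ)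
    (h' : 𝒳.p.IsHomLift g' φ) : g = g' :=
  IsoNatLib.eq_of_lifts 𝒳.p φ h h'

lemma base_comp_eq {A B B' C : Over S} {a b b' c : 𝒳.obj} {r : A ⟶ B} {r' : A ⟶ B'} {s : B ⟶ C} {s' : B' ⟶ C}
    {k : a ⟶ b} {k' : a ⟶ b'} {m : b ⟶ c} {m' : b' ⟶ c} (hk : 𝒳.p.IsHomLift r k) (hk' : 𝒳.p.IsHomLift r' k')
    (hm : 𝒳.p.IsHomLift s m) (hm' : 𝒳.p.IsHomLift s' m') (e : k ≫ m = k' ≫ m') : r ≫ s = r' ≫ s' :=
  base_eq (comp_lift hk hm) (e ▸ comp_lift hk' hm')

variable [IsFibGrpd 𝒳.p]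

/-- The element of the diagonal defined by a vertical endomorphism, and descent of equalities. -/
theorem hom_ext_family
    (hd : AlgSt.RepByAlgSpWith (AlgSp.IsSeparatedMor ⊓ AlgSp.IsQuasiCompactMor) (FibCat.diag (FibCat.toSelf 𝒳)))
    {T T'' : Over S} {g : T ⟶ T''} {κ : Type u} {Tk : κ → Over S} (c : ∀ k, Tk k ⟶ T)
    (hf : ∀ k, Flat (c k).left) (hp : ∀ k, LocallyOfFinitePresentation (c k).left)
    (hs : ∀ t : T.left, ∃ k, t ∈ Set.range (c k).left) {yk : ∀ k, 𝒳.p.Fiber (Tk k)} {y : 𝒳.p.Fiber T}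
    {w : 𝒳.p.Fiber T''} {a b : y.1 ⟶ w.1} (ha : 𝒳.p.IsHomLift g a) (hb : 𝒳.p.IsHomLift g b)
    (u : ∀ k, (yk k).1 ⟶ y.1) (hu : ∀ k, 𝒳.p.IsHomLift (c k) (u k)) (e : ∀ k, u k ≫ a = u k ≫ b) : a = b := by
  haveI : IsFibGrpd (fp (toSelf 𝒳) (toSelf 𝒳)).p := isFibGrpd_fp
  obtain ⟨θ, hθ, eθ⟩ := exists_fac b hb a (lift_congr (Category.id_comp g).symm ha)
  have hθu : ∀ k, u k ≫ θ = u k := fun k => eq_of_fac hb (lift_congr (Category.comp_id (c k)) (comp_lift (hu k) hθ))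
    (hu k) (by rw [Category.assoc, eθ, e])
  let z : (fp (toSelf 𝒳) (toSelf 𝒳)).p.Fiber T :=
    Fiber.mk (p := (fp (toSelf 𝒳) (toSelf 𝒳)).p) (a := (diag (toSelf 𝒳)).obj y.1)
      (((diag (toSelf 𝒳)).w_obj y.1).trans y.2)
  obtain ⟨H, aH, -, -, -, ⟨C⟩⟩ := exists_classifier hd z
  have hw : ∀ (t : y.1 ⟶ y.1), 𝒳.p.IsHomLift (𝟙 T) t →
      (toSelf 𝒳).map t ≫ ((diag (toSelf 𝒳)).obj y.1).obj.iso.hom =
        ((diag (toSelf 𝒳)).obj y.1).obj.iso.hom ≫ (toSelf 𝒳).map (𝟙 y.1) := by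
    intro t ht
    change 𝒳.p.map t ≫ 𝟙 _ = 𝟙 _ ≫ 𝒳.p.map (𝟙 y.1)
    haveI := ht
    have h0 : 𝒳.p.map t = 𝟙 _ := by simpa using IsHomLift.fac' 𝒳.p (𝟙 T) t
    rw [h0, CategoryTheory.Functor.map_id]
  let mt : ∀ (t : y.1 ⟶ y.1), 𝒳.p.IsHomLift (𝟙 T) t → ((diag (toSelf 𝒳)).obj y.1 ⟶ z.1) := fun t ht =>
    fpHom (x := (diag (toSelf 𝒳)).obj y.1) (y := (diag (toSelf 𝒳)).obj y.1) t (𝟙 y.1) (hw t ht)
  let E : ∀ (t : y.1 ⟶ y.1), 𝒳.p.IsHomLift (𝟙 T) t → Elt (diag (toSelf 𝒳)) z T := fun t ht =>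
    ⟨𝟙 T, y, mt t ht, by haveI : 𝒳.p.IsHomLift (𝟙 T) (mt t ht).hom.fst := ht; exact isHomLift_of_fst _ _⟩
  have hid : 𝒳.p.IsHomLift (𝟙 T) (𝟙 y.1) := IsHomLift.id y.2
  let Ek : ∀ k, Elt (diag (toSelf 𝒳)) z (Tk k) := fun k =>
    ⟨c k, yk k, (diag (toSelf 𝒳)).map (u k), fun_lift (diag (toSelf 𝒳)) (hu k)⟩
  have hE : ∀ (t : y.1 ⟶ y.1) (ht : 𝒳.p.IsHomLift (𝟙 T) t), (∀ k, u k ≫ t = u k) →
      ∀ k, EHom (c k) (Ek k) (E t ht) := fun t ht et k => ⟨u k, hu k, fp_hom_ext (et k) (Category.comp_id (u k))⟩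
  have key : C.cls (E θ hθ) = C.cls (E (𝟙 _) hid) :=
    AlgSpLib.hom_ext_of_cover c hf hp hs fun k =>
      (C.cls_map (hE θ hθ hθu k)).symm.trans (C.cls_map (hE (𝟙 _) hid (fun k => Category.comp_id (u k)) k))
  obtain ⟨k, -, hk⟩ := C.ehom_of_eq key
  have h₁ : k ≫ 𝟙 y.1 = θ := congrArg (fun m => m.hom.fst) hk
  have h₂ : k ≫ 𝟙 y.1 = 𝟙 y.1 := congrArg (fun m => m.hom.snd) hk
  rw [← eθ, h₁.symm.trans h₂, Category.id_comp]

/-- Morphisms are determined after a covering. -/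
def HomExt (𝒳 : AlgSt.Cat S) : Prop :=
  ∀ {Z T T'' : Over S} {c : Z ⟶ T} {g : T ⟶ T''}, Cov c → ∀ {z : 𝒳.p.Fiber Z} {y : 𝒳.p.Fiber T}
    {w : 𝒳.p.Fiber T''} {a b : y.1 ⟶ w.1}, 𝒳.p.IsHomLift g a → 𝒳.p.IsHomLift g b →
    ∀ (u : z.1 ⟶ y.1), 𝒳.p.IsHomLift c u → u ≫ a = u ≫ b → a = b

theorem homExt
    (hd : AlgSt.RepByAlgSpWith (AlgSp.IsSeparatedMor ⊓ AlgSp.IsQuasiCompactMor) (FibCat.diag (FibCat.toSelf 𝒳))) :
    HomExt 𝒳 := by
  intro Z T T'' c g hc z y w a b ha hb u hu e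
  obtain ⟨hf, hp, hs⟩ := hc
  exact hom_ext_family hd (κ := PUnit.{u + 1}) (fun _ => c) (fun _ => hf) (fun _ => hp)
    (fun t => ⟨⟨⟩, hs.1 t⟩) ha hb (fun _ => u) (fun _ => hu) (fun _ => e)

/-- An object with only trivial vertical endomorphisms. -/
def Thin {T : Over S} (w : 𝒳.p.Fiber T) : Prop :=
  ∀ θ : w.1 ⟶ w.1, 𝒳.p.IsHomLift (𝟙 T) θ → θ = 𝟙 _

lemma Thin.hom_eq {T T' : Over S} {w : 𝒳.p.Fiber T} (hw : Thin w) {g : T ⟶ T'} {z : 𝒳.obj} {a b : w.1 ⟶ z}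
    (ha : 𝒳.p.IsHomLift g a) (hb : 𝒳.p.IsHomLift g b) : a = b := by
  obtain ⟨θ, hθ, eθ⟩ := exists_fac b hb a (lift_congr (Category.id_comp g).symm ha)
  rw [← eθ, hw θ hθ, Category.id_comp]

theorem injective_appTop_of_dense {A : Scheme.{u}} {V : A.Opens} (hV : CInt.IsSchematicallyDense V) :
    Function.Injective V.ι.appTop := by
  intro x y h
  apply hV ⊤
  rw [Scheme.Opens.ι_appTop] at h
  have e : (⊤ : A.Opens) ⊓ V ≤ V.ι ''ᵁ ⊤ := by rw [Scheme.Opens.ι_image_top]; exact inf_le_right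
  have h' := congrArg (A.presheaf.map (homOfLE e).op) h
  have k : A.presheaf.map (homOfLE (inf_le_left : (⊤ : A.Opens) ⊓ V ≤ ⊤)).op =
      A.presheaf.map (homOfLE (x := V.ι ''ᵁ ⊤) le_top).op ≫ A.presheaf.map (homOfLE e).op := by
    rw [← Functor.map_comp]
    rfl
  rw [k]
  exact h'

/-- Objects smooth over a bald chart are thin. -/
theorem thin_of_bald
    (hd : AlgSt.RepByAlgSpWith (AlgSp.IsSeparatedMor ⊓ AlgSp.IsQuasiCompactMor) (FibCat.diag (FibCat.toSelf 𝒳)))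
    (hb : ∀ (U : Over S) (x : FibCat.overCat U ⥤ᵇ 𝒳), AlgSt.RepByAlgSpWith (AlgSp.LocP @Smooth) x →
      ∃ V : U.left.Opens,
        (∀ (T : Over S) (g : T ⟶ U), (∃ g' : T.left ⟶ ↑V, g' ≫ V.ι = g.left) ↔ IsoNat.IsClean (x.obj (Over.mk g))) ∧
        CInt.IsSchematicallyDense V)
    {U : Over S} (x₀ : 𝒳.p.Fiber U) (hx₀ : AlgSt.RepByAlgSpWith (AlgSp.LocP @Smooth) (ofPoint x₀))
    {T : Over S} (w : 𝒳.p.Fiber T) {h : T ⟶ U} (hh : Smooth h.left) (p : w.1 ⟶ x₀.1)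
    (hp : 𝒳.p.IsHomLift h p) : Thin w := by
  obtain ⟨V, hV, hVd⟩ := hb U (ofPoint x₀) hx₀
  intro θ hθ
  let 𝒰 := T.left.affineCover
  let Tk : 𝒰.I₀ → Over S := fun i => Over.mk (𝒰.f i ≫ T.hom)
  let c : ∀ i, Tk i ⟶ T := fun i => Over.homMk (𝒰.f i) rfl
  haveI : ∀ i, IsOpenImmersion (c i).left := fun i => inferInstanceAs (IsOpenImmersion (𝒰.f i))
  choose wk u hu using fun i => exists_pullback (c i) w
  refine hom_ext_family hd (T'' := T) (w := w) c (fun i => inferInstance) (fun i => inferInstance)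
    (fun t => ⟨𝒰.idx t, 𝒰.covers t⟩) hθ (IsHomLift.id w.2) u hu fun i => ?_
  rw [Category.comp_id]
  haveI : IsAffine (Tk i).left := inferInstanceAs (IsAffine (𝒰.X i))
  haveI : Smooth h.left := hh
  let f : (Tk i).left ⟶ U.left := (c i).left ≫ h.left
  haveI : Flat f := inferInstance
  haveI : LocallyOfFinitePresentation f := inferInstance
  let V' : (Tk i).left.Opens := f ⁻¹ᵁ V
  have hV'd : CInt.IsSchematicallyDense V' := Groth.Agent.S3843.result f V hVd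
  let W : Over S := Over.mk (V'.ι ≫ (Tk i).hom)
  let jW : W ⟶ Tk i := Over.homMk V'.ι rfl
  obtain ⟨θ', hθ', eθ'⟩ := exists_fac (u i) (hu i) (u i ≫ θ)
    (lift_congr ((Category.comp_id (c i)).trans (Category.id_comp (c i)).symm) (comp_lift (hu i) hθ))
  suffices e : θ' = 𝟙 _ by rw [← eθ', e, Category.id_comp]
  obtain ⟨wW, v, hv⟩ := exists_pullback jW (wk i)
  have hclean : IsClean wW.1 := by
    have hfac : ∃ g' : W.left ⟶ ↑V, g' ≫ V.ι = ((jW ≫ c i) ≫ h).left :=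
      ⟨f ∣_ V, by
        rw [morphismRestrict_ι]
        change _ = (V'.ι ≫ (c i).left) ≫ h.left
        rw [Category.assoc]⟩
    have hcl := (hV W ((jW ≫ c i) ≫ h)).1 hfac
    have hm : 𝒳.p.IsHomLift ((jW ≫ c i) ≫ h) ((v ≫ u i) ≫ p) := comp_lift (comp_lift hv (hu i)) hp
    have hn : 𝒳.p.IsHomLift ((jW ≫ c i) ≫ h) (IsPreFibered.pullbackMap x₀.2 ((jW ≫ c i) ≫ h)) := inferInstance
    exact (CleanOpenLib.isClean_iff_of_pullbacks _ hm _ hn).2 hcl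
  obtain ⟨θW, hθW, eθW⟩ := exists_fac v hv (v ≫ θ')
    (lift_congr ((Category.comp_id jW).trans (Category.id_comp jW).symm) (comp_lift hv hθ'))
  have hθW1 : θW = 𝟙 _ := by
    refine hclean wW.1 (𝟙 _) θW ?_
    haveI := hθW
    simpa using IsHomLift.fac' 𝒳.p (𝟙 W) θW
  exact hom_eq_of_dominant hd (y₀ := wW) (y := wk i) (w := wk i) jW (injective_appTop_of_dense hV'd) hθ'
    (IsHomLift.id (wk i).2) v hv (by rw [← eθW, hθW1, Category.id_comp, Category.comp_id])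

end IsoNatBaldLib
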