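import Groth.Agent.IsoNatBaldLib.Main
import Groth.Agent.IsoNatLib.Charts

/-!
# Bald stacks are determined by their presheaves of classes
-/

set_option autoImplicit false
set_option linter.style.haveILetI false
set_option backward.isDefEq.respectTransparency false
set_option backward.isDefEq.respectTransparency.types false

universe u

open CategoryTheory CategoryTheory.Limits AlgebraicGeometry AlgSp FibCat FibLib AlgStLib IsoNat IsoNatLib IsoNatSepLib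
open CategoryTheory.Functor (Fiber IsPreFibered IsStronglyCartesian)

noncomputable section

namespace IsoNatBaldLib

variable {S : Scheme.{u}} {𝒳 𝒴 : AlgSt.Cat S}

lemma objCls_ofPoint [IsFibGrpd 𝒳.p] {U : Over S} (z : 𝒳.p.Fiber U) : objCls (ofPoint z) = cls z := by
  obtain ⟨k⟩ := nonempty_evalAtId_ofPoint_iso z
  exact Quotient.sound ⟨k⟩

/-- Bald stacks with the same presheaves of classes are equivalent. -/
theorem isEquivOver_of_fIso (h𝒳 : AlgSt.IsAlgStack Scheme.fppfPrecoverage 𝒳)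
    (h𝒳d : AlgSt.RepByAlgSpWith (AlgSp.IsSeparatedMor ⊓ AlgSp.IsQuasiCompactMor)
      (FibCat.diag (FibCat.toSelf 𝒳)))
    (h𝒴 : AlgSt.IsAlgStack Scheme.fppfPrecoverage 𝒴)
    (h𝒴d : AlgSt.RepByAlgSpWith (AlgSp.IsSeparatedMor ⊓ AlgSp.IsQuasiCompactMor)
      (FibCat.diag (FibCat.toSelf 𝒴)))
    (h𝒳b : ∀ (U : Over S) (x : FibCat.overCat U ⥤ᵇ 𝒳), AlgSt.RepByAlgSpWith (AlgSp.LocP @Smooth) x →
      ∃ V : U.left.Opens,
        (∀ (T : Over S) (g : T ⟶ U), (∃ g' : T.left ⟶ ↑V, g' ≫ V.ι = g.left) ↔ IsoNat.IsClean (x.obj (Over.mk g))) ∧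
        CInt.IsSchematicallyDense V)
    (h𝒴b : ∀ (U : Over S) (x : FibCat.overCat U ⥤ᵇ 𝒴), AlgSt.RepByAlgSpWith (AlgSp.LocP @Smooth) x →
      ∃ V : U.left.Opens,
        (∀ (T : Over S) (g : T ⟶ U), (∃ g' : T.left ⟶ ↑V, g' ≫ V.ι = g.left) ↔ IsoNat.IsClean (x.obj (Over.mk g))) ∧
        CInt.IsSchematicallyDense V)
    (φ : IsoNat.FIso 𝒳 𝒴) : ∃ e : 𝒳 ⥤ᵇ 𝒴, FibCat.IsEquivOver e := by
  haveI := isFibGrpd_of_isAlgStack h𝒳
  haveI := isFibGrpd_of_isAlgStack h𝒴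
  obtain ⟨U, x₀, hx₀, hx₀s⟩ := h𝒳.atlas
  obtain ⟨z, hz⟩ : ∃ z : 𝒳.p.Fiber U, cls z = objCls x₀ :=
    ⟨Fiber.mk (p := 𝒳.p) (a := x₀.obj (Over.mk (𝟙 U))) (x₀.w_obj _), rfl⟩
  obtain ⟨y, hy⟩ := exists_rep' φ z
  have e₁ : (refl 𝒳).toEquiv U (objCls x₀) = objCls (ofPoint z) := hz.symm.trans (objCls_ofPoint z).symm
  have e₂ : φ.toEquiv U (objCls x₀) = objCls (ofPoint y) := by rw [← hz, hy, objCls_ofPoint]
  have hxs := chart_locP goodSch_smooth h𝒳 (refl 𝒳) e₁ hx₀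
  have hys := chart_locP goodSch_smooth h𝒴 φ e₂ hx₀
  have hxj := chart_surjective h𝒳 (refl 𝒳) e₁ hx₀s
  have hyj := chart_surjective h𝒴 φ e₂ hx₀s
  exact exists_equiv
    { U := U, x := z, y := y, φ := φ, hφ := hy
      univX := fun w => (nonempty_univ z hxs hxj w).some
      univY := fun w => (nonempty_univ y hys hyj w).some
      goodX := fun {_} w {_} hh p hp => thin_of_bald h𝒳d h𝒳b z hxs w hh p hp
      goodY := fun {_} w {_} hh p hp => thin_of_bald h𝒴d h𝒴b y hys w hh p hp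
      extX := homExt h𝒳d
      extY := homExt h𝒴d
      stX := h𝒳.isStack
      stY := h𝒴.isStack }

end IsoNatBaldLib
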