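import Groth.Agent.IsoNatBaldLib.Univ

/-!
# The correspondence of spans of two bald stacks with the same classes
-/

set_option autoImplicit false
set_option linter.style.haveILetI false
set_option backward.isDefEq.respectTransparency false
set_option backward.isDefEq.respectTransparency.types false

universe u

open CategoryTheory CategoryTheory.Limits AlgebraicGeometry AlgSp FibCat FibLib AlgStLib IsoNat IsoNatLib IsoNatSepLib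
open CategoryTheory.Functor (Fiber IsPreFibered IsStronglyCartesian)

noncomputable section

namespace IsoNatBaldLib

variable {S : Scheme.{u}}

/-- Charts of two stacks with the same classes. -/
structure Data (𝒳 𝒴 : AlgSt.Cat S) [IsFibGrpd 𝒳.p] [IsFibGrpd 𝒴.p] where
  /-- the base of the charts -/
  U : Over S
  /-- the chart of the first stack -/
  x : 𝒳.p.Fiber U
  /-- the chart of the second stack -/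
  y : 𝒴.p.Fiber U
  /-- the correspondence of classes -/
  φ : FIso 𝒳 𝒴
  hφ : φ.toEquiv U (cls x) = cls y
  /-- universal spans -/
  univX : ∀ {T : Over S} (z : 𝒳.p.Fiber T), Univ x z
  /-- universal spans -/
  univY : ∀ {T : Over S} (z : 𝒴.p.Fiber T), Univ y z
  goodX : ∀ {T : Over S} (w : 𝒳.p.Fiber T) {h : T ⟶ U}, Smooth h.left → ∀ (p : w.1 ⟶ x.1),
    𝒳.p.IsHomLift h p → Thin w
  goodY : ∀ {T : Over S} (w : 𝒴.p.Fiber T) {h : T ⟶ U}, Smooth h.left → ∀ (p : w.1 ⟶ y.1),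
    𝒴.p.IsHomLift h p → Thin w
  extX : HomExt 𝒳
  extY : HomExt 𝒴
  stX : Stk.IsStack (AlgSp.J S) 𝒳
  stY : Stk.IsStack (AlgSp.J S) 𝒴

namespace Data

variable {𝒳 𝒴 : AlgSt.Cat S} [IsFibGrpd 𝒳.p] [IsFibGrpd 𝒴.p] (D : Data 𝒳 𝒴)

/-- The same data seen from the other side. -/
def swap : Data 𝒴 𝒳 where
  U := D.U
  x := D.y
  y := D.x
  φ := IsoNatLib.symm D.φ
  hφ := (Equiv.symm_apply_eq _).2 D.hφ.symm
  univX := D.univY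
  univY := D.univX
  goodX := D.goodY
  goodY := D.goodX
  extX := D.extY
  extY := D.extX
  stX := D.stY
  stY := D.stX

theorem swap_swap : D.swap.swap = D := rfl

/-- The universal span of the chart. -/
abbrev P : Univ D.x D.x := D.univX D.x

/-- The corresponding apex. -/
def vQ : 𝒴.p.Fiber D.P.Q := (exists_rep' D.φ D.P.w).choose

lemma vQ_spec : D.φ.toEquiv D.P.Q (cls D.P.w) = cls D.vQ := (exists_rep' D.φ D.P.w).choose_spec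

/-- The corresponding first leg. -/
def α' : D.vQ.1 ⟶ D.y.1 := (exists_hom_transport D.φ D.P.s D.P.α D.P.hα D.vQ_spec D.hφ).choose

lemma hα' : 𝒴.p.IsHomLift D.P.s D.α' :=
  (exists_hom_transport D.φ D.P.s D.P.α D.P.hα D.vQ_spec D.hφ).choose_spec

/-- The corresponding second leg. -/
def β' : D.vQ.1 ⟶ D.y.1 := (exists_hom_transport D.φ D.P.t D.P.β D.P.hβ D.vQ_spec D.hφ).choose

lemma hβ' : 𝒴.p.IsHomLift D.P.t D.β' :=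
  (exists_hom_transport D.φ D.P.t D.P.β D.P.hβ D.vQ_spec D.hφ).choose_spec

/-- Corresponding spans. -/
def L {Z : Over S} {w : 𝒳.p.Fiber Z} {v : 𝒴.p.Fiber Z} (p q : w.1 ⟶ D.x.1) (p' q' : v.1 ⟶ D.y.1) : Prop :=
  ∃ (Z' : Over S) (c : Z' ⟶ Z) (r : Z' ⟶ D.P.Q) (wZ : 𝒳.p.Fiber Z') (vZ : 𝒴.p.Fiber Z') (cw : wZ.1 ⟶ w.1)
    (cv : vZ.1 ⟶ v.1) (k : wZ.1 ⟶ D.P.w.1) (K : vZ.1 ⟶ D.vQ.1),
    Cov c ∧ 𝒳.p.IsHomLift c cw ∧ 𝒴.p.IsHomLift c cv ∧ 𝒳.p.IsHomLift r k ∧ 𝒴.p.IsHomLift r K ∧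
      k ≫ D.P.α = cw ≫ p ∧ k ≫ D.P.β = cw ≫ q ∧ K ≫ D.α' = cv ≫ p' ∧ K ≫ D.β' = cv ≫ q'

theorem agree {Z : Over S} (wz : 𝒳.p.Fiber Z) (vz : 𝒴.p.Fiber Z) {r r' : Z ⟶ D.P.Q}
    (k k' : wz.1 ⟶ D.P.w.1) (hk : 𝒳.p.IsHomLift r k) (hk' : 𝒳.p.IsHomLift r' k') (K K' : vz.1 ⟶ D.vQ.1)
    (hK : 𝒴.p.IsHomLift r K) (hK' : 𝒴.p.IsHomLift r' K') (eα : k ≫ D.P.α = k' ≫ D.P.α)
    (eβ : k ≫ D.P.β = k' ≫ D.P.β) (eα' : K ≫ D.α' = K' ≫ D.α') : K ≫ D.β' = K' ≫ D.β' := by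
  obtain ⟨Q₂, e, e', n, he, hne, hne', w₂, κ, κ', hκ, hκ', fα, fβ⟩ := D.P.rel wz k k' hk hk' eα eβ
  obtain ⟨v₂, hv₂⟩ := exists_rep' D.φ w₂
  obtain ⟨κY, hκY⟩ := exists_hom_transport D.φ e κ hκ hv₂ D.vQ_spec
  obtain ⟨κY', hκY'⟩ := exists_hom_transport D.φ e' κ' hκ' hv₂ D.vQ_spec
  haveI := he
  haveI := D.P.smooth
  have hthin : Thin v₂ := D.goodY v₂ (h := e ≫ D.P.t) (inferInstanceAs (Smooth (e.left ≫ D.P.t.left))) _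
    (comp_lift hκY D.hβ')
  have es : e ≫ D.P.s = e' ≫ D.P.s := base_comp_eq hκ hκ' D.P.hα D.P.hα fα
  have et : e ≫ D.P.t = e' ≫ D.P.t := base_comp_eq hκ hκ' D.P.hβ D.P.hβ fβ
  have gα : κY ≫ D.α' = κY' ≫ D.α' := hthin.hom_eq (comp_lift hκY D.hα') (lift_congr es.symm (comp_lift hκY' D.hα'))
  have gβ : κY ≫ D.β' = κY' ≫ D.β' := hthin.hom_eq (comp_lift hκY D.hβ') (lift_congr et.symm (comp_lift hκY' D.hβ'))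
  obtain ⟨ν, hν, eν⟩ := exists_fac κY hκY K (lift_congr hne.symm hK)
  have eν' : ν ≫ κY' = K' := eq_of_fac D.hα' (lift_congr hne' (comp_lift hν hκY')) hK'
    (by rw [Category.assoc, ← gα, ← Category.assoc, eν, eα'])
  rw [← eν, ← eν', Category.assoc, Category.assoc, gβ]

variable {Z : Over S} {w : 𝒳.p.Fiber Z} {v : 𝒴.p.Fiber Z}

theorem L_exists {g h : Z ⟶ D.U} (p q : w.1 ⟶ D.x.1) (p' : v.1 ⟶ D.y.1) (hp : 𝒳.p.IsHomLift g p)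
    (hq : 𝒳.p.IsHomLift h q) (hp' : 𝒴.p.IsHomLift g p') : ∃ q', 𝒴.p.IsHomLift h q' ∧ D.L p q p' q' := by
  obtain ⟨Z', c, r, wZ, cw, k, hc, hcw, hk, eα, eβ⟩ := D.P.cover w p q hp hq
  obtain ⟨vZ, cv, hcv⟩ := exists_pullback c v
  have hg : c ≫ g = r ≫ D.P.s := (base_comp_eq hk hcw D.P.hα hp eα).symm
  have hh : c ≫ h = r ≫ D.P.t := (base_comp_eq hk hcw D.P.hβ hq eβ).symm
  obtain ⟨K, hK, eK⟩ := exists_fac D.α' D.hα' (cv ≫ p') (lift_congr hg (comp_lift hcv hp'))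
  obtain ⟨yh, py, hpy⟩ := exists_pullback h D.y
  obtain ⟨f, hf, ef⟩ := exists_fac (g := c) py hpy (K ≫ D.β') (lift_congr hh.symm (comp_lift hK D.hβ'))
  obtain ⟨hcf, hcp, hcs⟩ := hc
  obtain ⟨m, hm, hme⟩ := IsoNatClean.exists_hom_of_pieces D.stY v yh (κ := PUnit.{u + 1}) (fun _ => c)
    (fun _ => hcf) (fun _ => hcp) (fun t => ⟨⟨⟩, hcs.1 t⟩) (fun _ => cv) (fun _ => hcv) (fun _ => f)
    (fun _ => hf) (fun a _ _ u u' e => by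
      let bu : 𝒴.p.obj a ⟶ Z' := 𝒴.p.map u ≫ eqToHom vZ.2
      let bv : 𝒴.p.obj a ⟶ Z' := 𝒴.p.map u' ≫ eqToHom vZ.2
      have lu : 𝒴.p.IsHomLift bu u := IsHomLift.of_fac' 𝒴.p bu u rfl vZ.2 (by simp [bu])
      have lv : 𝒴.p.IsHomLift bv u' := IsHomLift.of_fac' 𝒴.p bv u' rfl vZ.2 (by simp [bv])
      let va : 𝒴.p.Fiber (𝒴.p.obj a) := Fiber.mk (p := 𝒴.p) (a := a) rfl
      have hb : bu ≫ c = bv ≫ c := base_comp_eq lu lv hcv hcv e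
      obtain ⟨wa, sa, hsa⟩ := exists_pullback (bu ≫ c) w
      obtain ⟨su, hsu, esu⟩ := exists_fac cw hcw sa hsa
      obtain ⟨sv, hsv, esv⟩ := exists_fac (g := bv) cw hcw sa (lift_congr hb hsa)
      have key := D.agree wa va (su ≫ k) (sv ≫ k) (comp_lift hsu hk) (comp_lift hsv hk) (u ≫ K) (u' ≫ K)
        (comp_lift lu hK) (comp_lift lv hK)
        (by rw [Category.assoc, eα, ← Category.assoc, esu, Category.assoc, eα, ← Category.assoc, esv])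
        (by rw [Category.assoc, eβ, ← Category.assoc, esu, Category.assoc, eβ, ← Category.assoc, esv])
        (by simp only [Category.assoc, eK]; rw [← Category.assoc, e, Category.assoc])
      exact eq_of_fac hpy (comp_lift lu hf) (lift_congr hb.symm (comp_lift lv hf))
        (by rw [Category.assoc, ef, Category.assoc, ef, ← Category.assoc, key, Category.assoc]))
  refine ⟨m ≫ py, lift_congr (Category.id_comp h) (comp_lift hm hpy), Z', c, r, wZ, vZ, cw, cv, k, K,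
    ⟨hcf, hcp, hcs⟩, hcw, hcv, hk, hK, eα, eβ, eK, ?_⟩
  rw [← Category.assoc, hme ⟨⟩, ef]

theorem L_unique {h : Z ⟶ D.U} {p q : w.1 ⟶ D.x.1} {p' q₁ q₂ : v.1 ⟶ D.y.1} (h₁ : 𝒴.p.IsHomLift h q₁)
    (h₂ : 𝒴.p.IsHomLift h q₂) (l₁ : D.L p q p' q₁) (l₂ : D.L p q p' q₂) : q₁ = q₂ := by
  obtain ⟨Z₁, c₁, r₁, w₁, v₁, cw₁, cv₁, k₁, K₁, hc₁, hcw₁, hcv₁, hk₁, hK₁, a₁, b₁, a₁', b₁'⟩ := l₁
  obtain ⟨Z₂, c₂, r₂, w₂, v₂, cw₂, cv₂, k₂, K₂, hc₂, hcw₂, hcv₂, hk₂, hK₂, a₂, b₂, a₂', b₂'⟩ := l₂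
  obtain ⟨P, d₁, d₂, hd, -, hd₁, -, -, -⟩ := exists_pb c₁ c₂
  obtain ⟨wP, sP, hsP⟩ := exists_pullback (d₁ ≫ c₁) w
  obtain ⟨vP, tP, htP⟩ := exists_pullback (d₁ ≫ c₁) v
  obtain ⟨s₁, hs₁, es₁⟩ := exists_fac cw₁ hcw₁ sP hsP
  obtain ⟨s₂, hs₂, es₂⟩ := exists_fac (g := d₂) cw₂ hcw₂ sP (lift_congr hd hsP)
  obtain ⟨t₁, ht₁, et₁⟩ := exists_fac cv₁ hcv₁ tP htP
  obtain ⟨t₂, ht₂, et₂⟩ := exists_fac (g := d₂) cv₂ hcv₂ tP (lift_congr hd htP)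
  have key := D.agree wP vP (s₁ ≫ k₁) (s₂ ≫ k₂) (comp_lift hs₁ hk₁) (comp_lift hs₂ hk₂) (t₁ ≫ K₁) (t₂ ≫ K₂)
    (comp_lift ht₁ hK₁) (comp_lift ht₂ hK₂)
    (by rw [Category.assoc, a₁, ← Category.assoc, es₁, Category.assoc, a₂, ← Category.assoc, es₂])
    (by rw [Category.assoc, b₁, ← Category.assoc, es₁, Category.assoc, b₂, ← Category.assoc, es₂])
    (by rw [Category.assoc, a₁', ← Category.assoc, et₁, Category.assoc, a₂', ← Category.assoc, et₂])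
  rw [Category.assoc, b₁', ← Category.assoc, et₁, Category.assoc, b₂', ← Category.assoc, et₂] at key
  exact D.extY (cov_comp (hd₁ hc₂) hc₁) h₁ h₂ tP htP key

theorem L_pb {p q : w.1 ⟶ D.x.1} {p' q' : v.1 ⟶ D.y.1} (l : D.L p q p' q') {Z₁ : Over S} {b : Z₁ ⟶ Z}
    {w₁ : 𝒳.p.Fiber Z₁} {v₁ : 𝒴.p.Fiber Z₁} (sw : w₁.1 ⟶ w.1) (sv : v₁.1 ⟶ v.1) (hsw : 𝒳.p.IsHomLift b sw)
    (hsv : 𝒴.p.IsHomLift b sv) : D.L (sw ≫ p) (sw ≫ q) (sv ≫ p') (sv ≫ q') := by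
  obtain ⟨Z', c, r, wZ, vZ, cw, cv, k, K, hc, hcw, hcv, hk, hK, ea, eb, ea', eb'⟩ := l
  obtain ⟨P, d₁, d₂, hd, -, hd₁, -, -, -⟩ := exists_pb b c
  obtain ⟨wP, sP, hsP⟩ := exists_pullback d₁ w₁
  obtain ⟨vP, tP, htP⟩ := exists_pullback d₁ v₁
  obtain ⟨s₂, hs₂, es₂⟩ := exists_fac (g := d₂) cw hcw (sP ≫ sw) (lift_congr hd (comp_lift hsP hsw))
  obtain ⟨t₂, ht₂, et₂⟩ := exists_fac (g := d₂) cv hcv (tP ≫ sv) (lift_congr hd (comp_lift htP hsv))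
  refine ⟨P, d₁, d₂ ≫ r, wP, vP, sP, tP, s₂ ≫ k, t₂ ≫ K, hd₁ hc, hsP, htP, comp_lift hs₂ hk, comp_lift ht₂ hK,
    ?_, ?_, ?_, ?_⟩
  · rw [Category.assoc, ea, ← Category.assoc, es₂, Category.assoc]
  · rw [Category.assoc, eb, ← Category.assoc, es₂, Category.assoc]
  · rw [Category.assoc, ea', ← Category.assoc, et₂, Category.assoc]
  · rw [Category.assoc, eb', ← Category.assoc, et₂, Category.assoc]

theorem L_loc {p q : w.1 ⟶ D.x.1} {p' q' : v.1 ⟶ D.y.1} {Z₁ : Over S} {b : Z₁ ⟶ Z} {w₁ : 𝒳.p.Fiber Z₁}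
    {v₁ : 𝒴.p.Fiber Z₁} (sw : w₁.1 ⟶ w.1) (sv : v₁.1 ⟶ v.1) (hb : Cov b) (hsw : 𝒳.p.IsHomLift b sw)
    (hsv : 𝒴.p.IsHomLift b sv) (l : D.L (sw ≫ p) (sw ≫ q) (sv ≫ p') (sv ≫ q')) : D.L p q p' q' := by
  obtain ⟨Z', c, r, wZ, vZ, cw, cv, k, K, hc, hcw, hcv, hk, hK, ea, eb, ea', eb'⟩ := l
  exact ⟨Z', c ≫ b, r, wZ, vZ, cw ≫ sw, cv ≫ sv, k, K, cov_comp hc hb, comp_lift hcw hsw, comp_lift hcv hsv,
    hk, hK, by rw [ea, Category.assoc], by rw [eb, Category.assoc], by rw [ea', Category.assoc],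
    by rw [eb', Category.assoc]⟩

theorem L_good {g h : Z ⟶ D.U} (hh : Smooth h.left) {p q : w.1 ⟶ D.x.1} {p' q' : v.1 ⟶ D.y.1}
    (hp : 𝒳.p.IsHomLift g p) (hq : 𝒳.p.IsHomLift h q) (hp' : 𝒴.p.IsHomLift g p') (hq' : 𝒴.p.IsHomLift h q') :
    D.L p q p' q' := by
  obtain ⟨q'', hq'', l⟩ := D.L_exists p q p' hp hq hp'
  rwa [(D.goodY v hh q' hq').hom_eq hq'' hq'] at l

theorem L_refl {g : Z ⟶ D.U} {p : w.1 ⟶ D.x.1} {p' : v.1 ⟶ D.y.1} (hp : 𝒳.p.IsHomLift g p)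
    (hp' : 𝒴.p.IsHomLift g p') : D.L p p p' p' := by
  have h0 : D.L (w := D.x) (v := D.y) (𝟙 _) (𝟙 _) (𝟙 _) (𝟙 _) :=
    D.L_good (g := 𝟙 D.U) (h := 𝟙 D.U) (inferInstanceAs (Smooth (𝟙 D.U.left))) (IsHomLift.id D.x.2)
      (IsHomLift.id D.x.2) (IsHomLift.id D.y.2) (IsHomLift.id D.y.2)
  simpa using D.L_pb h0 p p' hp hp'

theorem L_trans {p q r : w.1 ⟶ D.x.1} {p' q' r' : v.1 ⟶ D.y.1}
    (l₁ : D.L p q p' q') (l₂ : D.L q r q' r') : D.L p r p' r' := by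
  obtain ⟨Z₁, c₁, r₁, w₁, v₁, cw₁, cv₁, k₁, K₁, hc₁, hcw₁, hcv₁, hk₁, hK₁, a₁, b₁, a₁', b₁'⟩ := l₁
  obtain ⟨Z₂, c₂, r₂, w₂, v₂, cw₂, cv₂, k₂, K₂, hc₂, hcw₂, hcv₂, hk₂, hK₂, a₂, b₂, a₂', b₂'⟩ :=
    D.L_pb l₂ cw₁ cv₁ hcw₁ hcv₁
  obtain ⟨W, π₁, π₂, hW, huniv, -, -, -, hπ₂⟩ := exists_pb D.P.t D.P.s
  obtain ⟨wW, κ₁, hκ₁⟩ := exists_pullback π₁ D.P.w
  obtain ⟨vW, μ₁, hμ₁⟩ := exists_pullback π₁ D.vQ
  obtain ⟨κ₂, hκ₂, eκ₂⟩ := exists_fac (g := π₂) D.P.α D.P.hα (κ₁ ≫ D.P.β) (lift_congr hW (comp_lift hκ₁ D.P.hβ))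
  obtain ⟨μ₂, hμ₂, eμ₂⟩ := exists_fac (g := π₂) D.α' D.hα' (μ₁ ≫ D.β') (lift_congr hW (comp_lift hμ₁ D.hβ'))
  haveI := D.P.smooth
  haveI := hπ₂ D.P.smooth
  have l0 : D.L (κ₁ ≫ D.P.α) (κ₂ ≫ D.P.β) (μ₁ ≫ D.α') (μ₂ ≫ D.β') :=
    D.L_good (h := π₂ ≫ D.P.t) (inferInstanceAs (Smooth (π₂.left ≫ D.P.t.left))) (comp_lift hκ₁ D.P.hα)
      (comp_lift hκ₂ D.P.hβ) (comp_lift hμ₁ D.hα') (comp_lift hμ₂ D.hβ')
  have e1 : (cw₂ ≫ k₁) ≫ D.P.β = k₂ ≫ D.P.α := by rw [Category.assoc, b₁, a₂]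
  have e1' : (cv₂ ≫ K₁) ≫ D.β' = K₂ ≫ D.α' := by rw [Category.assoc, b₁', a₂']
  obtain ⟨n, hn₁, hn₂⟩ := huniv Z₂ (c₂ ≫ r₁) r₂
    (base_comp_eq (comp_lift hcw₂ hk₁) hk₂ D.P.hβ D.P.hα e1)
  obtain ⟨ν, hν, eν⟩ := exists_fac (g := n) κ₁ hκ₁ (cw₂ ≫ k₁) (lift_congr hn₁.symm (comp_lift hcw₂ hk₁))
  obtain ⟨ν', hν', eν'⟩ := exists_fac (g := n) μ₁ hμ₁ (cv₂ ≫ K₁) (lift_congr hn₁.symm (comp_lift hcv₂ hK₁))
  have f2 : ν ≫ κ₂ = k₂ := eq_of_fac D.P.hα (lift_congr hn₂ (comp_lift hν hκ₂)) hk₂ (by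
    rw [Category.assoc, eκ₂, ← Category.assoc, eν, e1])
  have f2' : ν' ≫ μ₂ = K₂ := eq_of_fac D.hα' (lift_congr hn₂ (comp_lift hν' hμ₂)) hK₂ (by
    rw [Category.assoc, eμ₂, ← Category.assoc, eν', e1'])
  have l1 := D.L_pb l0 ν ν' hν hν'
  refine D.L_loc (cw₂ ≫ cw₁) (cv₂ ≫ cv₁) (cov_comp hc₂ hc₁) (comp_lift hcw₂ hcw₁) (comp_lift hcv₂ hcv₁) ?_
  have i1 : ν ≫ κ₁ ≫ D.P.α = (cw₂ ≫ cw₁) ≫ p := by rw [← Category.assoc, eν, Category.assoc, a₁, Category.assoc]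
  have i2 : ν ≫ κ₂ ≫ D.P.β = (cw₂ ≫ cw₁) ≫ r := by rw [← Category.assoc, f2, b₂, Category.assoc]
  have i3 : ν' ≫ μ₁ ≫ D.α' = (cv₂ ≫ cv₁) ≫ p' := by rw [← Category.assoc, eν', Category.assoc, a₁', Category.assoc]
  have i4 : ν' ≫ μ₂ ≫ D.β' = (cv₂ ≫ cv₁) ≫ r' := by rw [← Category.assoc, f2', b₂', Category.assoc]
  rwa [i1, i2, i3, i4] at l1

theorem L_symm {g h : Z ⟶ D.U} {p q : w.1 ⟶ D.x.1} {p' q' : v.1 ⟶ D.y.1} (hp : 𝒳.p.IsHomLift g p)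
    (hq : 𝒳.p.IsHomLift h q) (hp' : 𝒴.p.IsHomLift g p') (hq' : 𝒴.p.IsHomLift h q') (l : D.L p q p' q') :
    D.L q p q' p' := by
  obtain ⟨p'', hp'', l'⟩ := D.L_exists q p q' hq hp hq'
  rwa [D.L_unique hp' hp'' (D.L_refl hp hp') (D.L_trans l l')]

theorem L_of_swap {p q : w.1 ⟶ D.x.1} {p' q' : v.1 ⟶ D.y.1} (l : D.swap.L p' q' p q) : D.L p q p' q' := by
  obtain ⟨Z', c, r, vZ, wZ, cv, cw, K, k, hc, hcv, hcw, hK, hk, ea', eb', ea, eb⟩ := l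
  have l0 : D.L (w := D.swap.vQ) (v := D.swap.P.w) D.swap.α' D.swap.β' D.swap.P.α D.swap.P.β :=
    D.L_good D.swap.P.smooth D.swap.hα' D.swap.hβ' D.swap.P.hα D.swap.P.hβ
  have l1 := D.L_pb l0 k K hk hK
  refine D.L_loc cw cv hc hcw hcv ?_
  rw [← ea, ← eb, ← ea', ← eb']
  exact l1

theorem L_swap_iff {p q : w.1 ⟶ D.x.1} {p' q' : v.1 ⟶ D.y.1} : D.swap.L p' q' p q ↔ D.L p q p' q' :=
  ⟨D.L_of_swap, fun l => D.swap.L_of_swap (by exact l)⟩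

theorem L_uniqueX {h : Z ⟶ D.U} {p q₁ q₂ : w.1 ⟶ D.x.1} {p' q' : v.1 ⟶ D.y.1} (h₁ : 𝒳.p.IsHomLift h q₁)
    (h₂ : 𝒳.p.IsHomLift h q₂) (l₁ : D.L p q₁ p' q') (l₂ : D.L p q₂ p' q') : q₁ = q₂ :=
  D.swap.L_unique h₁ h₂ (D.L_swap_iff.2 l₁) (D.L_swap_iff.2 l₂)

end Data

end IsoNatBaldLib
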