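import Groth.Agent.IsoNatBaldLib.Real

/-!
# The equivalence of two stacks with corresponding spans
-/

set_option autoImplicit false
set_option linter.style.haveILetI false
set_option backward.isDefEq.respectTransparency false
set_option backward.isDefEq.respectTransparency.types false

universe u

open CategoryTheory CategoryTheory.Limits AlgebraicGeometry AlgSp FibCat FibLib AlgStLib IsoNat IsoNatLib IsoNatSepLib
open CategoryTheory.Functor (Fiber IsPreFibered IsStronglyCartesian)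

noncomputable section

namespace IsoNatBaldLib

variable {S : Scheme.{u}} {𝒳 𝒴 : AlgSt.Cat S} [IsFibGrpd 𝒳.p] [IsFibGrpd 𝒴.p]

lemma lift_id_of_eqToHom {A B : Over S} (e : A = B) {a b : 𝒴.obj} {φ : a ⟶ b}
    (h : 𝒴.p.IsHomLift (eqToHom e) φ) : 𝒴.p.IsHomLift (𝟙 B) φ := by
  subst e; simpa using h

/-- Corresponding charts give an equivalence of stacks. -/
theorem exists_equiv (D : Data 𝒳 𝒴) : ∃ e : 𝒳 ⥤ᵇ 𝒴, FibCat.IsEquivOver e := by
  let xf : ∀ a : 𝒳.obj, 𝒳.p.Fiber (𝒳.p.obj a) := fun a => Fiber.mk (p := 𝒳.p) (a := a) rfl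
  choose Y hY using fun a => nonempty_real D (xf a)
  let R : ∀ a, Real D (xf a) (Y a) := fun a => (hY a).some
  have hl : ∀ {a b : 𝒳.obj} (f : a ⟶ b), 𝒳.p.IsHomLift (𝒳.p.map f) f := fun f => IsHomLift.map 𝒳.p f
  have ex : ∀ (a b : 𝒳.obj) (f : a ⟶ b), ∃ m : (Y a).1 ⟶ (Y b).1,
      𝒴.p.IsHomLift (𝒳.p.map f) m ∧ (R a).Resp (R b) (x₁ := xf a) (x₂ := xf b) f m :=
    fun a b f => (R a).exists_resp (R b) (x₁ := xf a) (x₂ := xf b) f (hl f)
  choose mp hmp hmr using ex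
  let e₀ : 𝒳.obj ⥤ 𝒴.obj :=
    { obj := fun a => (Y a).1
      map := fun {a b} f => mp a b f
      map_id := fun a => (R a).resp_unique (R a) (h := 𝒳.p.map (𝟙 a)) (n := 𝟙 a) (hl (𝟙 a)) (hmp a a (𝟙 a))
        (lift_congr (𝒳.p.map_id a).symm (IsHomLift.id (Y a).2)) (hmr a a (𝟙 a)) (R a).resp_id
      map_comp := fun {a b c} f g => (R a).resp_unique (R c) (h := 𝒳.p.map (f ≫ g)) (n := f ≫ g) (hl (f ≫ g))
        (hmp a c (f ≫ g)) (lift_congr (𝒳.p.map_comp f g).symm (comp_lift (hmp a b f) (hmp b c g)))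
        (hmr a c (f ≫ g))
        ((R a).resp_comp (R b) (R c) (hl f) (hl g) (hmp a b f) (hmp b c g) (hmr a b f) (hmr b c g)) }
  let e : 𝒳 ⥤ᵇ 𝒴 :=
    { toFunctor := e₀
      w := CategoryTheory.Functor.ext (fun a => (Y a).2) (fun a b f => by
        haveI := hmp a b f
        exact IsHomLift.fac' 𝒴.p (𝒳.p.map f) (mp a b f)) }
  refine ⟨e, (FibLib.isEquivOver_iff e).2 ⟨⟨⟨fun {a b} m => ?_⟩, ⟨fun {a b} n n' h => ?_⟩⟩, fun η => ?_⟩⟩
  · have hm : 𝒴.p.IsHomLift (eqToHom (Y a).2.symm ≫ 𝒴.p.map m ≫ eqToHom (Y b).2) m :=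
      IsHomLift.of_fac' 𝒴.p _ m (Y a).2 (Y b).2 (by simp)
    obtain ⟨n, hn, hr⟩ := (R a).swap.exists_resp (R b).swap m hm
    have hg : 𝒳.p.map n = eqToHom (Y a).2.symm ≫ 𝒴.p.map m ≫ eqToHom (Y b).2 := base_eq (hl n) hn
    refine ⟨n, (R a).resp_unique (R b) hn (lift_congr hg (hmp a b n)) hm (hmr a b n) ?_⟩
    exact (R a).swap.resp_swap (R b).swap hm hn hr
  · change mp a b n = mp a b n' at h
    have hb : 𝒳.p.map n = 𝒳.p.map n' := base_eq (hmp a b n) (h.symm ▸ hmp a b n')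
    have r₁ : (R a).swap.Resp (R b).swap (mp a b n) n := (R a).resp_swap (R b) (hl n) (hmp a b n) (hmr a b n)
    have r₂ : (R a).swap.Resp (R b).swap (mp a b n') n' := (R a).resp_swap (R b) (hl n') (hmp a b n') (hmr a b n')
    rw [← h] at r₂
    exact (R a).swap.resp_unique (R b).swap (hmp a b n) (hl n) (lift_congr hb.symm (hl n')) r₁ r₂
  · obtain ⟨x, ⟨R'⟩⟩ := nonempty_real D.swap (Fiber.mk (p := 𝒴.p) (a := η) rfl)
    have h1 : 𝒳.p.IsHomLift (eqToHom x.2) (𝟙 x.1) := IsHomLift.of_fac' 𝒳.p _ _ rfl x.2 (by simp)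
    obtain ⟨m, hm, -⟩ := (R x.1).exists_resp R'.swap (x₁ := xf x.1) (x₂ := x) (𝟙 x.1) h1
    haveI hm' : 𝒴.p.IsHomLift (𝟙 (𝒴.p.obj η)) m := lift_id_of_eqToHom x.2 hm
    haveI : IsIso m := isIso_of_isHomLift 𝒴.p (𝟙 (𝒴.p.obj η)) m
    exact ⟨x.1, asIso m, hm'⟩

end IsoNatBaldLib
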