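import Groth.Agent.IsoNatBaldLib.Link
import Groth.Agent.StackSecLib.Desc

/-!
# Objects corresponding under the correspondence of spans
-/

set_option autoImplicit false
set_option linter.style.haveILetI false
set_option backward.isDefEq.respectTransparency false
set_option backward.isDefEq.respectTransparency.types false

universe u

open CategoryTheory CategoryTheory.Limits AlgebraicGeometry AlgSp FibCat FibLib AlgStLib IsoNat IsoNatLib IsoNatSepLib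
open CategoryTheory.Functor (Fiber IsPreFibered IsStronglyCartesian)

noncomputable section

namespace IsoNatBaldLib

variable {S : Scheme.{u}} {𝒳 𝒴 : AlgSt.Cat S} [IsFibGrpd 𝒳.p] [IsFibGrpd 𝒴.p]

/-- An object of the second stack realising an object of the first. -/
structure Real (D : Data 𝒳 𝒴) {T : Over S} (x₁ : 𝒳.p.Fiber T) (y₁ : 𝒴.p.Fiber T) where
  /-- the covering -/
  Q : Over S
  /-- the map to the chart -/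
  s : Q ⟶ D.U
  /-- the covering map -/
  t : Q ⟶ T
  /-- the apex -/
  wx : 𝒳.p.Fiber Q
  /-- the apex -/
  vx : 𝒴.p.Fiber Q
  /-- the leg to the chart -/
  a : wx.1 ⟶ D.x.1
  /-- the leg to the object -/
  b : wx.1 ⟶ x₁.1
  /-- the leg to the chart -/
  a' : vx.1 ⟶ D.y.1
  /-- the leg to the object -/
  b' : vx.1 ⟶ y₁.1
  ha : 𝒳.p.IsHomLift s a
  hb : 𝒳.p.IsHomLift t b
  ha' : 𝒴.p.IsHomLift s a'
  hb' : 𝒴.p.IsHomLift t b'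
  cov : Cov t
  coc : ∀ {Z : Over S} {wz : 𝒳.p.Fiber Z} {vz : 𝒴.p.Fiber Z} {r r' : Z ⟶ Q} (k k' : wz.1 ⟶ wx.1)
    (K K' : vz.1 ⟶ vx.1), 𝒳.p.IsHomLift r k → 𝒳.p.IsHomLift r' k' → 𝒴.p.IsHomLift r K → 𝒴.p.IsHomLift r' K' →
    k ≫ b = k' ≫ b → D.L (k ≫ a) (k' ≫ a) (K ≫ a') (K' ≫ a') → K ≫ b' = K' ≫ b'

namespace Real

variable {D : Data 𝒳 𝒴} {T : Over S} {x₁ : 𝒳.p.Fiber T} {y₁ : 𝒴.p.Fiber T} (R : Real D x₁ y₁)

variable {Z : Over S} {wz : 𝒳.p.Fiber Z} {vz : 𝒴.p.Fiber Z} {r r' : Z ⟶ R.Q}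

theorem coc' (k k' : wz.1 ⟶ R.wx.1) (K K' : vz.1 ⟶ R.vx.1) (hk : 𝒳.p.IsHomLift r k)
    (hk' : 𝒳.p.IsHomLift r' k') (hK : 𝒴.p.IsHomLift r K) (hK' : 𝒴.p.IsHomLift r' K')
    (e : k ≫ R.b = k' ≫ R.b) (e' : K ≫ R.b' = K' ≫ R.b') :
    D.L (k ≫ R.a) (k' ≫ R.a) (K ≫ R.a') (K' ≫ R.a') := by
  obtain ⟨q, hq, l⟩ := D.L_exists (k ≫ R.a) (k' ≫ R.a) (K ≫ R.a') (comp_lift hk R.ha) (comp_lift hk' R.ha)
    (comp_lift hK R.ha')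
  obtain ⟨K'', hK'', eK''⟩ := exists_fac R.a' R.ha' q hq
  subst eK''
  have := R.coc k k' K K'' hk hk' hK hK'' e l
  rwa [eq_of_fac R.hb' hK'' hK' (this.symm.trans e')] at l

theorem coc_swap (k k' : wz.1 ⟶ R.wx.1) (K K' : vz.1 ⟶ R.vx.1) (hk : 𝒳.p.IsHomLift r k)
    (hk' : 𝒳.p.IsHomLift r' k') (hK : 𝒴.p.IsHomLift r K) (hK' : 𝒴.p.IsHomLift r' K')
    (e' : K ≫ R.b' = K' ≫ R.b') (l : D.L (k ≫ R.a) (k' ≫ R.a) (K ≫ R.a') (K' ≫ R.a')) : k ≫ R.b = k' ≫ R.b := by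
  obtain ⟨k'', hk'', ek''⟩ := exists_fac (g := r') R.b R.hb (k ≫ R.b)
    (lift_congr (base_comp_eq hK hK' R.hb' R.hb' e') (comp_lift hk R.hb))
  have h' := R.coc' k k'' K K' hk hk'' hK hK' ek''.symm e'
  have := D.L_uniqueX (comp_lift hk'' R.ha) (comp_lift hk' R.ha) h' l
  rw [← ek'', eq_of_fac R.ha hk'' hk' this]

/-- A realisation seen from the other side. -/
def swap : Real D.swap y₁ x₁ where
  Q := R.Q
  s := R.s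
  t := R.t
  wx := R.vx
  vx := R.wx
  a := R.a'
  b := R.b'
  a' := R.a
  b' := R.b
  ha := R.ha'
  hb := R.hb'
  ha' := R.ha
  hb' := R.hb
  cov := R.cov
  coc := fun K K' k k' hK hK' hk hk' e l => R.coc_swap k k' K K' hk hk' hK hK' e (D.L_swap_iff.1 l)

variable {T₂ : Over S} {x₂ : 𝒳.p.Fiber T₂} {y₂ : 𝒴.p.Fiber T₂} (R₂ : Real D x₂ y₂)

/-- The morphism `m` realises `n`. -/
def Resp (n : x₁.1 ⟶ x₂.1) (m : y₁.1 ⟶ y₂.1) : Prop :=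
  ∀ {Z : Over S} {wz : 𝒳.p.Fiber Z} {vz : 𝒴.p.Fiber Z} {r : Z ⟶ R.Q} {r' : Z ⟶ R₂.Q} (k : wz.1 ⟶ R.wx.1)
    (k' : wz.1 ⟶ R₂.wx.1) (K : vz.1 ⟶ R.vx.1) (K' : vz.1 ⟶ R₂.vx.1), 𝒳.p.IsHomLift r k →
    𝒳.p.IsHomLift r' k' → 𝒴.p.IsHomLift r K → 𝒴.p.IsHomLift r' K' → k ≫ R.b ≫ n = k' ≫ R₂.b →
    D.L (k ≫ R.a) (k' ≫ R₂.a) (K ≫ R.a') (K' ≫ R₂.a') → K ≫ R.b' ≫ m = K' ≫ R₂.b'

/-- The test data. -/
theorem exists_test {h : T ⟶ T₂} (n : x₁.1 ⟶ x₂.1) (hn : 𝒳.p.IsHomLift h n) :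
    ∃ (Z : Over S) (d₁ : Z ⟶ R.Q) (d₂ : Z ⟶ R₂.Q) (w₀ : 𝒳.p.Fiber Z) (v₀ : 𝒴.p.Fiber Z) (k₀ : w₀.1 ⟶ R.wx.1)
      (k₀' : w₀.1 ⟶ R₂.wx.1) (K₀ : v₀.1 ⟶ R.vx.1) (K₀' : v₀.1 ⟶ R₂.vx.1),
      Cov (d₁ ≫ R.t) ∧ (d₁ ≫ R.t) ≫ h = d₂ ≫ R₂.t ∧
      (∀ (Z' : Over S) (a : Z' ⟶ R.Q) (b : Z' ⟶ R₂.Q), a ≫ R.t ≫ h = b ≫ R₂.t →
        ∃ m : Z' ⟶ Z, m ≫ d₁ = a ∧ m ≫ d₂ = b) ∧
      𝒳.p.IsHomLift d₁ k₀ ∧ 𝒳.p.IsHomLift d₂ k₀' ∧ 𝒴.p.IsHomLift d₁ K₀ ∧ 𝒴.p.IsHomLift d₂ K₀' ∧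
      k₀ ≫ R.b ≫ n = k₀' ≫ R₂.b ∧ D.L (k₀ ≫ R.a) (k₀' ≫ R₂.a) (K₀ ≫ R.a') (K₀' ≫ R₂.a') := by
  obtain ⟨Z, d₁, d₂, hd, huniv, hd₁, -, -, -⟩ := exists_pb (R.t ≫ h) R₂.t
  obtain ⟨w₀, k₀, hk₀⟩ := exists_pullback d₁ R.wx
  obtain ⟨v₀, K₀, hK₀⟩ := exists_pullback d₁ R.vx
  obtain ⟨k₀', hk₀', ek⟩ := exists_fac (g := d₂) R₂.b R₂.hb (k₀ ≫ R.b ≫ n)
    (lift_congr hd (comp_lift hk₀ (comp_lift R.hb hn)))
  obtain ⟨q, hq, l⟩ := D.L_exists (k₀ ≫ R.a) (k₀' ≫ R₂.a) (K₀ ≫ R.a') (comp_lift hk₀ R.ha)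
    (comp_lift hk₀' R₂.ha) (comp_lift hK₀ R.ha')
  obtain ⟨K₀', hK₀', eK⟩ := exists_fac R₂.a' R₂.ha' q hq
  subst eK
  exact ⟨Z, d₁, d₂, w₀, v₀, k₀, k₀', K₀, K₀', cov_comp (hd₁ R₂.cov) R.cov,
    (Category.assoc _ _ _).trans hd, huniv, hk₀, hk₀', hK₀, hK₀', ek.symm, l⟩

theorem exists_resp {h : T ⟶ T₂} (n : x₁.1 ⟶ x₂.1) (hn : 𝒳.p.IsHomLift h n) :
    ∃ m : y₁.1 ⟶ y₂.1, 𝒴.p.IsHomLift h m ∧ R.Resp R₂ n m := by
  obtain ⟨Z, d₁, d₂, w₀, v₀, k₀, k₀', K₀, K₀', hcov, hd, huniv, hk₀, hk₀', hK₀, hK₀', ek, l₀⟩ :=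
    R.exists_test R₂ n hn
  obtain ⟨yh, py, hpy⟩ := exists_pullback h y₂
  obtain ⟨f, hf, ef⟩ := exists_fac (g := d₁ ≫ R.t) py hpy (K₀' ≫ R₂.b')
    (lift_congr hd.symm (comp_lift hK₀' R₂.hb'))
  obtain ⟨hcf, hcp, hcs⟩ := id hcov
  obtain ⟨m, hm, hme⟩ := IsoNatClean.exists_hom_of_pieces D.stY y₁ yh (κ := PUnit.{u + 1}) (fun _ => d₁ ≫ R.t)
    (fun _ => hcf) (fun _ => hcp) (fun t => ⟨⟨⟩, hcs.1 t⟩) (fun _ => K₀ ≫ R.b')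
    (fun _ => comp_lift hK₀ R.hb') (fun _ => f) (fun _ => hf) (fun a _ _ u u' e => by
      let bu : 𝒴.p.obj a ⟶ Z := 𝒴.p.map u ≫ eqToHom v₀.2
      let bv : 𝒴.p.obj a ⟶ Z := 𝒴.p.map u' ≫ eqToHom v₀.2
      have lu : 𝒴.p.IsHomLift bu u := IsHomLift.of_fac' 𝒴.p bu u rfl v₀.2 (by simp [bu])
      have lv : 𝒴.p.IsHomLift bv u' := IsHomLift.of_fac' 𝒴.p bv u' rfl v₀.2 (by simp [bv])
      let va : 𝒴.p.Fiber (𝒴.p.obj a) := Fiber.mk (p := 𝒴.p) (a := a) rfl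
      have hb : bu ≫ d₁ ≫ R.t = bv ≫ d₁ ≫ R.t :=
        base_comp_eq lu lv (comp_lift hK₀ R.hb') (comp_lift hK₀ R.hb') e
      obtain ⟨wa, su, hsu⟩ := exists_pullback bu w₀
      obtain ⟨sv, hsv, esv⟩ := exists_fac (g := bv) (k₀ ≫ R.b) (comp_lift hk₀ R.hb) (su ≫ k₀ ≫ R.b)
        (lift_congr hb (comp_lift hsu (comp_lift hk₀ R.hb)))
      have hu0 : 𝒳.p.IsHomLift (bu ≫ d₁) (su ≫ k₀) := comp_lift hsu hk₀
      have hv0 : 𝒳.p.IsHomLift (bv ≫ d₁) (sv ≫ k₀) := comp_lift hsv hk₀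
      have l1 : D.L (v := va) ((su ≫ k₀) ≫ R.a) ((sv ≫ k₀) ≫ R.a) ((u ≫ K₀) ≫ R.a') ((u' ≫ K₀) ≫ R.a') :=
        R.coc' (wz := wa) (vz := va) (su ≫ k₀) (sv ≫ k₀) (u ≫ K₀) (u' ≫ K₀) hu0 hv0 (comp_lift lu hK₀)
          (comp_lift lv hK₀) (by rw [Category.assoc, Category.assoc, esv])
          (by rw [Category.assoc, Category.assoc]; exact e)
      have lu0 : D.L (v := va) ((su ≫ k₀) ≫ R.a) ((su ≫ k₀') ≫ R₂.a) ((u ≫ K₀) ≫ R.a') ((u ≫ K₀') ≫ R₂.a') := by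
        simpa only [Category.assoc] using D.L_pb (v₁ := va) l₀ su u hsu lu
      have lv0 : D.L (v := va) ((sv ≫ k₀) ≫ R.a) ((sv ≫ k₀') ≫ R₂.a) ((u' ≫ K₀) ≫ R.a') ((u' ≫ K₀') ≫ R₂.a') := by
        simpa only [Category.assoc] using D.L_pb (v₁ := va) l₀ sv u' hsv lv
      have l2 := D.L_trans (D.L_trans (D.L_symm (comp_lift hu0 R.ha) (comp_lift (comp_lift hsu hk₀') R₂.ha)
        (comp_lift (comp_lift lu hK₀) R.ha') (comp_lift (comp_lift lu hK₀') R₂.ha') lu0) l1) lv0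
      have key := R₂.coc (wz := wa) (vz := va) (su ≫ k₀') (sv ≫ k₀') (u ≫ K₀') (u' ≫ K₀') (comp_lift hsu hk₀') (comp_lift hsv hk₀')
        (comp_lift lu hK₀') (comp_lift lv hK₀') (by
          simp only [Category.assoc, ← ek]
          have e2 := congrArg (· ≫ n) esv
          simp only [Category.assoc] at e2
          exact e2.symm) l2
      refine eq_of_fac hpy (comp_lift lu hf) (lift_congr hb.symm (comp_lift lv hf)) ?_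
      simp only [Category.assoc] at key
      simp only [Category.assoc, ef]
      exact key)
  refine ⟨m ≫ py, lift_congr (Category.id_comp h) (comp_lift hm hpy),
    fun {Z' wz vz r r'} k k' K K' hk hk' hK hK' e l => ?_⟩
  obtain ⟨i, hi₁, hi₂⟩ := huniv Z' r r' (base_comp_eq hk hk' (comp_lift R.hb hn) R₂.hb e)
  obtain ⟨ν, hν, eν⟩ := exists_fac (g := i) k₀ hk₀ k (lift_congr hi₁.symm hk)
  obtain ⟨ν', hν', eν'⟩ := exists_fac (g := i) K₀ hK₀ K (lift_congr hi₁.symm hK)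
  have f1 : ν ≫ k₀' = k' := eq_of_fac R₂.hb (lift_congr hi₂ (comp_lift hν hk₀')) hk' (by
    rw [Category.assoc, ← ek, ← Category.assoc, eν, e])
  have l1 : D.L (k ≫ R.a) (k' ≫ R₂.a) (K ≫ R.a') ((ν' ≫ K₀') ≫ R₂.a') := by
    have := D.L_pb l₀ ν ν' hν hν'
    simp only [← Category.assoc, eν, eν', f1] at this
    exact this
  have hq : 𝒴.p.IsHomLift (r' ≫ R₂.s) ((ν' ≫ K₀') ≫ R₂.a') :=
    lift_congr (by rw [hi₂]) (comp_lift (comp_lift hν' hK₀') R₂.ha')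
  have f2 : ν' ≫ K₀' = K' := eq_of_fac R₂.ha' (lift_congr hi₂ (comp_lift hν' hK₀')) hK'
    (D.L_unique hq (comp_lift hK' R₂.ha') l1 l)
  rw [← eν', ← f2, Category.assoc ν', Category.assoc ν', ← Category.assoc K₀, ← Category.assoc (K₀ ≫ R.b') m,
    show (K₀ ≫ R.b') ≫ m = f from hme ⟨⟩, ef]

theorem resp_unique {h : T ⟶ T₂} {n : x₁.1 ⟶ x₂.1} (hn : 𝒳.p.IsHomLift h n) {m m' : y₁.1 ⟶ y₂.1}
    (hm : 𝒴.p.IsHomLift h m) (hm' : 𝒴.p.IsHomLift h m') (hr : R.Resp R₂ n m) (hr' : R.Resp R₂ n m') : m = m' := by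
  obtain ⟨Z, d₁, d₂, w₀, v₀, k₀, k₀', K₀, K₀', hcov, -, -, hk₀, hk₀', hK₀, hK₀', ek, l₀⟩ :=
    R.exists_test R₂ n hn
  refine D.extY hcov hm hm' (K₀ ≫ R.b') (comp_lift hK₀ R.hb') ?_
  rw [Category.assoc, Category.assoc, hr k₀ k₀' K₀ K₀' hk₀ hk₀' hK₀ hK₀' ek l₀,
    hr' k₀ k₀' K₀ K₀' hk₀ hk₀' hK₀ hK₀' ek l₀]

theorem resp_swap {h : T ⟶ T₂} {n : x₁.1 ⟶ x₂.1} (hn : 𝒳.p.IsHomLift h n) {m : y₁.1 ⟶ y₂.1}
    (hm : 𝒴.p.IsHomLift h m) (hr : R.Resp R₂ n m) : R.swap.Resp R₂.swap m n := by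
  intro Z vz wz r r' K K' k k' hK hK' hk hk' e l
  have hbase := base_comp_eq hK hK' (comp_lift R.hb' hm) R₂.hb' e
  obtain ⟨κ, hκ, eκ⟩ := exists_fac (g := r') R₂.b R₂.hb (k ≫ R.b ≫ n)
    (lift_congr hbase (comp_lift hk (comp_lift R.hb hn)))
  obtain ⟨q, hq, l'⟩ := D.L_exists (k ≫ R.a) (κ ≫ R₂.a) (K ≫ R.a') (comp_lift hk R.ha) (comp_lift hκ R₂.ha)
    (comp_lift hK R.ha')
  obtain ⟨Kκ, hKκ, eKκ⟩ := exists_fac R₂.a' R₂.ha' q hq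
  subst eKκ
  have h1 := hr k κ K Kκ hk hκ hK hKκ eκ.symm l'
  rw [eq_of_fac R₂.hb' hKκ hK' (h1.symm.trans e)] at l'
  have h2 := D.L_uniqueX (comp_lift hκ R₂.ha) (comp_lift hk' R₂.ha) l' (D.L_swap_iff.1 l)
  show k ≫ R.b ≫ n = k' ≫ R₂.b
  rw [← eκ, eq_of_fac R₂.ha hκ hk' h2]

theorem resp_id : R.Resp R (𝟙 _) (𝟙 _) := fun k k' K K' hk hk' hK hK' e l =>
  (congrArg (K ≫ ·) (Category.comp_id R.b')).trans
    (R.coc k k' K K' hk hk' hK hK' ((congrArg (k ≫ ·) (Category.comp_id R.b)).symm.trans e) l)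

variable {T₃ : Over S} {x₃ : 𝒳.p.Fiber T₃} {y₃ : 𝒴.p.Fiber T₃} (R₃ : Real D x₃ y₃)

theorem resp_comp {h : T ⟶ T₂} {h' : T₂ ⟶ T₃} {n : x₁.1 ⟶ x₂.1} {n' : x₂.1 ⟶ x₃.1} {m : y₁.1 ⟶ y₂.1}
    {m' : y₂.1 ⟶ y₃.1} (hn : 𝒳.p.IsHomLift h n) (hn' : 𝒳.p.IsHomLift h' n') (hm : 𝒴.p.IsHomLift h m)
    (hm' : 𝒴.p.IsHomLift h' m') (hr : R.Resp R₂ n m) (hr' : R₂.Resp R₃ n' m') :
    R.Resp R₃ (n ≫ n') (m ≫ m') := by
  intro Z wz vz r r' k k' K K' hk hk' hK hK' e l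
  obtain ⟨P, d₁, d₂, hd, -, hd₁, -, -, -⟩ := exists_pb (r ≫ R.t ≫ h) R₂.t
  obtain ⟨wP, sP, hsP⟩ := exists_pullback d₁ wz
  obtain ⟨vP, tP, htP⟩ := exists_pullback d₁ vz
  obtain ⟨k₂, hk₂, ek₂⟩ := exists_fac (g := d₂) R₂.b R₂.hb (sP ≫ k ≫ R.b ≫ n)
    (lift_congr hd (comp_lift hsP (comp_lift hk (comp_lift R.hb hn))))
  have hsk : 𝒳.p.IsHomLift (d₁ ≫ r) (sP ≫ k) := comp_lift hsP hk
  have htK : 𝒴.p.IsHomLift (d₁ ≫ r) (tP ≫ K) := comp_lift htP hK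
  obtain ⟨q, hq, l₁₂⟩ := D.L_exists ((sP ≫ k) ≫ R.a) (k₂ ≫ R₂.a) ((tP ≫ K) ≫ R.a') (comp_lift hsk R.ha)
    (comp_lift hk₂ R₂.ha) (comp_lift htK R.ha')
  obtain ⟨K₂, hK₂, eK₂⟩ := exists_fac R₂.a' R₂.ha' q hq
  subst eK₂
  have e1 := hr (sP ≫ k) k₂ (tP ≫ K) K₂ hsk hk₂ htK hK₂ (by rw [ek₂, Category.assoc]) l₁₂
  have l₁₃ : D.L ((sP ≫ k) ≫ R.a) ((sP ≫ k') ≫ R₃.a) ((tP ≫ K) ≫ R.a') ((tP ≫ K') ≫ R₃.a') := by
    simpa only [Category.assoc] using D.L_pb l sP tP hsP htP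
  have l₂₃ := D.L_trans (D.L_symm (comp_lift hsk R.ha) (comp_lift hk₂ R₂.ha) (comp_lift htK R.ha')
    (comp_lift hK₂ R₂.ha') l₁₂) l₁₃
  have e2 := hr' k₂ (sP ≫ k') K₂ (tP ≫ K') hk₂ (comp_lift hsP hk') hK₂ (comp_lift htP hK') (by
    rw [← Category.assoc k₂, ek₂]
    simp only [Category.assoc]
    rw [e]) l₂₃
  refine D.extY (hd₁ R₂.cov) (comp_lift hK (comp_lift R.hb' (comp_lift hm hm'))) ?_ tP htP ?_
  · exact lift_congr (base_comp_eq hk hk' (comp_lift R.hb (comp_lift hn hn')) R₃.hb e).symm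
      (comp_lift hK' R₃.hb')
  · rw [← Category.assoc tP K', ← e2, ← Category.assoc K₂, ← e1]
    simp only [Category.assoc]

end Real

/-- The transitions of the descent datum of a realisation. -/
def Tr (D : Data 𝒳 𝒴) {T Q : Over S} {x₁ : 𝒳.p.Fiber T} {wx : 𝒳.p.Fiber Q} {vx : 𝒴.p.Fiber Q}
    (a : wx.1 ⟶ D.x.1) (b : wx.1 ⟶ x₁.1) (a' : vx.1 ⟶ D.y.1) {Z : Over S} (r r' : Z ⟶ Q)
    {vz : 𝒴.p.Fiber Z} (K K' : vz.1 ⟶ vx.1) : Prop :=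
  ∀ (wz : 𝒳.p.Fiber Z) (k k' : wz.1 ⟶ wx.1), 𝒳.p.IsHomLift r k → 𝒳.p.IsHomLift r' k' → k ≫ b = k' ≫ b →
    D.L (k ≫ a) (k' ≫ a) (K ≫ a') (K' ≫ a')

/-- Every object has a realisation. -/
theorem nonempty_real (D : Data 𝒳 𝒴) {T : Over S} (x₁ : 𝒳.p.Fiber T) :
    ∃ y₁ : 𝒴.p.Fiber T, Nonempty (Real D x₁ y₁) := by
  let P := D.univX x₁
  let wx := P.w
  obtain ⟨vx, hvx⟩ := exists_rep' D.φ wx
  obtain ⟨a', ha'⟩ := exists_hom_transport D.φ P.s P.α P.hα hvx D.hφ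
  let pm : ∀ {Z : Over S} (r : Z ⟶ P.Q), IsPreFibered.pullbackObj vx.2 r ⟶ vx.1 :=
    fun r => IsPreFibered.pullbackMap vx.2 r
  have hpm : ∀ {Z : Over S} (r : Z ⟶ P.Q), 𝒴.p.IsHomLift r (pm r) := fun r => inferInstance
  have tr_ex : ∀ {Z : Over S} {r r' : Z ⟶ P.Q} {vz : 𝒴.p.Fiber Z} (K : vz.1 ⟶ vx.1),
      𝒴.p.IsHomLift r K → r ≫ P.t = r' ≫ P.t →
      ∃ K' : vz.1 ⟶ vx.1, 𝒴.p.IsHomLift r' K' ∧ Tr D P.α P.β a' r r' K K' := by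
    intro Z r r' vz K hK hrt
    obtain ⟨wz, k, hk⟩ := exists_pullback r wx
    obtain ⟨k', hk', ek'⟩ := exists_fac (g := r') P.β P.hβ (k ≫ P.β) (lift_congr hrt (comp_lift hk P.hβ))
    obtain ⟨q, hq, l⟩ := D.L_exists (k ≫ P.α) (k' ≫ P.α) (K ≫ a') (comp_lift hk P.hα) (comp_lift hk' P.hα)
      (comp_lift hK ha')
    obtain ⟨K', hK', eK'⟩ := exists_fac a' ha' q hq
    subst eK'
    refine ⟨K', hK', fun wz₂ k₂ k₂' hk₂ hk₂' e => ?_⟩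
    obtain ⟨σ, hσ, eσ⟩ := exists_fac (g := 𝟙 Z) k hk k₂ (lift_congr (Category.id_comp r).symm hk₂)
    have eσ' : σ ≫ k' = k₂' := eq_of_fac P.hβ (lift_congr (Category.id_comp r') (comp_lift hσ hk')) hk₂' (by
      rw [Category.assoc, ek', ← Category.assoc, eσ, e])
    have := D.L_pb l σ (𝟙 vz.1) hσ (IsHomLift.id vz.2)
    simpa only [← Category.assoc, eσ, eσ', Category.id_comp] using this
  have tr_unique : ∀ {Z : Over S} {r r' : Z ⟶ P.Q} {vz : 𝒴.p.Fiber Z} {K K' K'' : vz.1 ⟶ vx.1},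
      r ≫ P.t = r' ≫ P.t → 𝒴.p.IsHomLift r' K' → 𝒴.p.IsHomLift r' K'' →
      Tr D P.α P.β a' r r' K K' → Tr D P.α P.β a' r r' K K'' → K' = K'' := by
    intro Z r r' vz K K' K'' hrt hK' hK'' h h'
    obtain ⟨wz, k, hk⟩ := exists_pullback r wx
    obtain ⟨k', hk', ek'⟩ := exists_fac (g := r') P.β P.hβ (k ≫ P.β) (lift_congr hrt (comp_lift hk P.hβ))
    exact eq_of_fac ha' hK' hK'' (D.L_unique (comp_lift hK' ha') (comp_lift hK'' ha') (h wz k k' hk hk' ek'.symm)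
      (h' wz k k' hk hk' ek'.symm))
  have tr_pb : ∀ {Z Z₁ : Over S} {m : Z₁ ⟶ Z} {r r' : Z ⟶ P.Q} {vz : 𝒴.p.Fiber Z} {vz₁ : 𝒴.p.Fiber Z₁}
      (σ : vz₁.1 ⟶ vz.1), 𝒴.p.IsHomLift m σ → r ≫ P.t = r' ≫ P.t → ∀ {K K' : vz.1 ⟶ vx.1},
      Tr D P.α P.β a' r r' K K' → Tr D P.α P.β a' (m ≫ r) (m ≫ r') (σ ≫ K) (σ ≫ K') := by
    intro Z Z₁ m r r' vz vz₁ σ hσ hrt K K' h wz₁ k₁ k₁' hk₁ hk₁' e₁
    obtain ⟨wz, k, hk⟩ := exists_pullback r wx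
    obtain ⟨k', hk', ek'⟩ := exists_fac (g := r') P.β P.hβ (k ≫ P.β) (lift_congr hrt (comp_lift hk P.hβ))
    obtain ⟨ρ, hρ, eρ⟩ := exists_fac (g := m) k hk k₁ hk₁
    have eρ' : ρ ≫ k' = k₁' := eq_of_fac P.hβ (comp_lift hρ hk') hk₁' (by
      rw [Category.assoc, ek', ← Category.assoc, eρ, e₁])
    have := D.L_pb (h wz k k' hk hk' ek'.symm) ρ σ hρ hσ
    simpa only [← Category.assoc, eρ, eρ'] using this
  have tr_trans : ∀ {Z : Over S} {r r' r'' : Z ⟶ P.Q} {vz : 𝒴.p.Fiber Z} {K K' K'' : vz.1 ⟶ vx.1},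
      r ≫ P.t = r' ≫ P.t → Tr D P.α P.β a' r r' K K' →
      Tr D P.α P.β a' r' r'' K' K'' → Tr D P.α P.β a' r r'' K K'' := by
    intro Z r r' r'' vz K K' K'' h1 t1 t2 wz k k'' hk hk'' e
    obtain ⟨k', hk', ek'⟩ := exists_fac (g := r') P.β P.hβ (k ≫ P.β) (lift_congr h1 (comp_lift hk P.hβ))
    exact D.L_trans (t1 wz k k' hk hk' ek'.symm) (t2 wz k' k'' hk' hk'' (ek'.trans e))
  let vp : ∀ {Z : Over S} (r : Z ⟶ P.Q), 𝒴.p.Fiber Z := fun r =>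
    Fiber.mk (p := 𝒴.p) (a := IsPreFibered.pullbackObj vx.2 r) (IsPreFibered.pullbackObj_proj _ _)
  have key : ∀ {Z : Over S} (r r' : Z ⟶ P.Q), r ≫ P.t = r' ≫ P.t →
      ∃ θ : (ofPoint vx).obj (Over.mk r) ⟶ (ofPoint vx).obj (Over.mk r'),
        𝒴.p.IsHomLift (𝟙 Z) θ ∧ Tr D P.α P.β a' r r' (vz := vp r) (pm r) (θ ≫ pm r') := by
    intro Z r r' hrt
    obtain ⟨K', hK', htr⟩ := tr_ex (vz := vp r) (pm r) (hpm r) hrt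
    obtain ⟨θ, hθ, eθ⟩ := exists_fac (pm r') (hpm r') K' (lift_congr (Category.id_comp r').symm hK')
    subst eθ
    exact ⟨θ, hθ, htr⟩
  choose θ hθ hθr using @key
  let fam : PUnit.{u + 1} → (P.Q ⟶ T) := fun _ => P.t
  let Dt : StackSecLib.Datum 𝒴 (W := fun _ : PUnit.{u + 1} => P.Q) fam :=
    { X := fun _ => ofPoint vx
      φ := fun {Z _ _} r r' e => θ r r' e
      φ_lift := fun {Z _ _} r r' e => hθ r r' e
      φ_nat := fun {Z Z' _ _} m r r' e => by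
        let M := (ofPoint vx).map (Over.homMk m rfl : Over.mk (m ≫ r) ⟶ Over.mk r)
        let M' := (ofPoint vx).map (Over.homMk m rfl : Over.mk (m ≫ r') ⟶ Over.mk r')
        have hM : 𝒴.p.IsHomLift m M := lift_map _ (Over.homMk m rfl : Over.mk (m ≫ r) ⟶ Over.mk r)
        have hM' : 𝒴.p.IsHomLift m M' := lift_map _ (Over.homMk m rfl : Over.mk (m ≫ r') ⟶ Over.mk r')
        have hm' : (m ≫ r) ≫ P.t = (m ≫ r') ≫ P.t := by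
          rw [Category.assoc, Category.assoc]; exact congrArg (m ≫ ·) e
        refine eq_of_fac (hpm r') (lift_congr (Category.id_comp m) (comp_lift (hθ _ _ hm') hM'))
          (lift_congr (Category.comp_id m) (comp_lift hM (hθ r r' e))) ?_
        refine tr_unique (r := m ≫ r) (vz := vp (m ≫ r)) (K := pm (m ≫ r)) hm' ?_ ?_ ?_ ?_
        · exact lift_congr (by simp) (comp_lift (comp_lift (hθ _ _ hm') hM') (hpm r'))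
        · exact lift_congr (by simp) (comp_lift (comp_lift hM (hθ r r' e)) (hpm r'))
        · rw [Category.assoc, show M' ≫ pm r' = pm (m ≫ r') from pbMap_fac _ m rfl]
          exact hθr _ _ hm'
        · rw [Category.assoc, ← show M ≫ pm r = pm (m ≫ r) from pbMap_fac _ m rfl]
          exact tr_pb (vz := vp r) (vz₁ := vp (m ≫ r)) M hM e (hθr r r' e)
      φ_trans := fun {Z _ _ _} r r' r'' e e' => by
        refine eq_of_fac (hpm r'') (lift_congr (Category.id_comp _) (comp_lift (hθ r r' e) (hθ r' r'' e')))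
          (hθ r r'' (e.trans e')) ?_
        refine tr_unique (r := r) (vz := vp r) (K := pm r) (e.trans e') ?_ ?_ ?_ (hθr r r'' (e.trans e'))
        · exact lift_congr (by simp) (comp_lift (comp_lift (hθ r r' e) (hθ r' r'' e')) (hpm r''))
        · exact lift_congr (by simp) (comp_lift (hθ r r'' (e.trans e')) (hpm r''))
        · rw [Category.assoc]
          refine tr_trans e (hθr r r' e) ?_
          have := tr_pb (vz := vp r') (vz₁ := vp r) (θ r r' e) (hθ r r' e) e' (hθr r' r'' e')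
          rwa [Category.id_comp, Category.id_comp] at this }
  have hR : StackSecLib.famSieve (W := fun _ : PUnit.{u + 1} => P.Q) fam ∈ AlgSp.J S T := by
    obtain ⟨hf, hp, hs⟩ := P.cov
    refine GrothendieckTopology.superset_covering _ ?_ (AlgSpLib.ofArrows_mem_J
      (fun _ : PUnit.{u + 1} => P.t) (fun _ => hf) (fun _ => hp) (fun x => ⟨⟨⟩, hs.1 x⟩))
    rintro Z g ⟨W', e, f', hf', rfl⟩
    obtain ⟨i⟩ := hf'
    exact ⟨i, e, rfl⟩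
  obtain ⟨G, ψ, hψ⟩ := Dt.exists_desc (D.stY.2 _ hR)
  let y₁ : 𝒴.p.Fiber T := Fiber.mk (p := 𝒴.p) (a := G.obj (Over.mk (𝟙 T))) (G.w_obj _)
  let ev : ∀ {Z : Over S} (r : Z ⟶ P.Q), (ofPoint vx).obj (Over.mk r) ⟶ y₁.1 := fun r =>
    (ψ ⟨⟩).inv.toNatTrans.app (Over.mk r) ≫ G.map (toId ((FibLib.overMap P.t).obj (Over.mk r)))
  have hev : ∀ {Z : Over S} (r : Z ⟶ P.Q), 𝒴.p.IsHomLift (r ≫ P.t) (ev r) := fun {Z} r =>
    lift_congr (Category.id_comp _) (comp_lift (f := 𝟙 Z) (BasedNatTrans.isHomLift (ψ ⟨⟩).inv (a := Over.mk r) rfl)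
      (lift_map G (toId ((FibLib.overMap P.t).obj (Over.mk r)))))
  haveI hiso : IsIso (pm (𝟙 P.Q)) := by
    haveI := hpm (𝟙 P.Q); exact isIso_of_isHomLift 𝒴.p (𝟙 P.Q) _
  let b' : vx.1 ⟶ y₁.1 := inv (pm (𝟙 P.Q)) ≫ ev (𝟙 P.Q)
  have hb' : 𝒴.p.IsHomLift P.t b' := by
    haveI := hpm (𝟙 P.Q)
    have h1 : 𝒴.p.IsHomLift (𝟙 P.Q) (inv (pm (𝟙 P.Q))) :=
      @IsHomLift.lift_id_inv _ _ _ _ 𝒴.p _ _ _ (asIso (pm (𝟙 P.Q))) (hpm (𝟙 P.Q))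
    exact lift_congr (by simp) (comp_lift h1 (hev (𝟙 P.Q)))
  have eval : ∀ {Z : Over S} (r : Z ⟶ P.Q) {o : 𝒴.obj} (K : o ⟶ vx.1)
      (θi : o ⟶ (ofPoint vx).obj (Over.mk r)), θi ≫ pm r = K → K ≫ b' = θi ≫ ev r := by
    intro Z r o K θi e
    let n : (Over.mk r : Over P.Q) ⟶ Over.mk (𝟙 P.Q) := toId (Over.mk r)
    have hn : (ofPoint vx).map n ≫ pm (𝟙 P.Q) = pm r := pbMap_fac _ n.left (Over.w n)
    have nat : (ofPoint vx).map n ≫ (ψ ⟨⟩).inv.toNatTrans.app (Over.mk (𝟙 P.Q)) =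
        (ψ ⟨⟩).inv.toNatTrans.app (Over.mk r) ≫ G.map ((FibLib.overMap P.t).map n) :=
      (ψ ⟨⟩).inv.toNatTrans.naturality n
    rw [← e, ← hn]
    simp only [b', ev, Category.assoc, IsIso.hom_inv_id_assoc]
    rw [reassoc_of% nat, ← G.toFunctor.map_comp, comp_toId]
  refine ⟨y₁, ⟨{ Q := P.Q, s := P.s, t := P.t, wx := wx, vx := vx, a := P.α, b := P.β, a' := a', b' := b'
                 ha := P.hα, hb := P.hβ, ha' := ha', hb' := hb', cov := P.cov, coc := ?_ }⟩⟩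
  intro Z wz vz r r' k k' K K' hk hk' hK hK' e l
  have hrt : r ≫ P.t = r' ≫ P.t := base_comp_eq hk hk' P.hβ P.hβ e
  obtain ⟨θi, hθi, eθi⟩ := exists_fac (pm r) (hpm r) K (lift_congr (Category.id_comp r).symm hK)
  have hK'' : θi ≫ θ r r' hrt ≫ pm r' = K' := by
    have htr : Tr D P.α P.β a' r r' K K' := by
      intro wz₂ k₂ k₂' hk₂ hk₂' e₂
      obtain ⟨σ, hσ, eσ⟩ := exists_fac (g := 𝟙 Z) k hk k₂ (lift_congr (Category.id_comp r).symm hk₂)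
      have eσ' : σ ≫ k' = k₂' := eq_of_fac P.hβ (lift_congr (Category.id_comp r') (comp_lift hσ hk')) hk₂' (by
        rw [Category.assoc, ← e, ← Category.assoc, eσ, e₂])
      have := D.L_pb l σ (𝟙 vz.1) hσ (IsHomLift.id vz.2)
      simpa only [← Category.assoc, eσ, eσ', Category.id_comp] using this
    refine tr_unique hrt ?_ hK' ?_ htr
    · exact lift_congr (by simp) (comp_lift hθi (comp_lift (hθ r r' hrt) (hpm r')))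
    · have := tr_pb (vz₁ := vz) θi hθi hrt (hθr r r' hrt)
      rwa [Category.id_comp, Category.id_comp, eθi] at this
  let kk : Over.mk (r ≫ P.t) ⟶ Over.mk (r' ≫ P.t) :=
    Over.homMk (𝟙 Z) ((Category.id_comp _).trans hrt.symm)
  have hc := hψ (i := ⟨⟩) (j := ⟨⟩) r r' hrt kk rfl
  haveI : IsIso ((ψ ⟨⟩).hom.toNatTrans.app (Over.mk r')) :=
    ⟨(ψ ⟨⟩).inv.toNatTrans.app (Over.mk r'), (appIso (ψ ⟨⟩) (Over.mk r')).hom_inv_id,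
      (appIso (ψ ⟨⟩) (Over.mk r')).inv_hom_id⟩
  have hc' : (ψ ⟨⟩).inv.toNatTrans.app (Over.mk r) ≫ G.map kk =
      θ r r' hrt ≫ (ψ ⟨⟩).inv.toNatTrans.app (Over.mk r') := by
    rw [← cancel_mono ((ψ ⟨⟩).hom.toNatTrans.app (Over.mk r')), Category.assoc, hc, Category.assoc,
      show (ψ ⟨⟩).inv.toNatTrans.app (Over.mk r') ≫ (ψ ⟨⟩).hom.toNatTrans.app (Over.mk r') = 𝟙 _ from
        (appIso (ψ ⟨⟩) (Over.mk r')).inv_hom_id, Category.comp_id,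
      ← Category.assoc, show (ψ ⟨⟩).inv.toNatTrans.app (Over.mk r) ≫ (ψ ⟨⟩).hom.toNatTrans.app (Over.mk r) = 𝟙 _
        from (appIso (ψ ⟨⟩) (Over.mk r)).inv_hom_id, Category.id_comp]
  rw [eval r K θi eθi, eval r' K' (θi ≫ θ r r' hrt) (by rw [Category.assoc, hK'']), Category.assoc]
  simp only [ev]
  rw [show toId ((FibLib.overMap P.t).obj (Over.mk r)) =
    kk ≫ toId ((FibLib.overMap P.t).obj (Over.mk r')) from (comp_toId kk).symm]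
  erw [G.toFunctor.map_comp, reassoc_of% hc']

end IsoNatBaldLib
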