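import Groth.Agent.IsoNatBaldLib.Basic
import Groth.Agent.IsoNatLib.Transfer

/-!
# Universal spans between a chart and an object
-/

set_option autoImplicit false
set_option linter.style.haveILetI false
set_option backward.isDefEq.respectTransparency false
set_option backward.isDefEq.respectTransparency.types false

universe u

open CategoryTheory CategoryTheory.Limits AlgebraicGeometry AlgSp FibCat FibLib AlgStLib IsoNat IsoNatLib IsoNatSepLib
open CategoryTheory.Functor (Fiber IsPreFibered IsStronglyCartesian)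

noncomputable section

namespace IsoNatBaldLib

variable {S : Scheme.{u}} {𝒳 : AlgSt.Cat S}

/-- A universal span between `x₀` and `z`. -/
structure Univ {U : Over S} (x₀ : 𝒳.p.Fiber U) {T : Over S} (z : 𝒳.p.Fiber T) where
  /-- the base -/
  Q : Over S
  /-- the apex -/
  w : 𝒳.p.Fiber Q
  /-- the map to the chart -/
  s : Q ⟶ U
  /-- the map to the base of `z` -/
  t : Q ⟶ T
  /-- the first leg -/
  α : w.1 ⟶ x₀.1
  /-- the second leg -/
  β : w.1 ⟶ z.1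
  hα : 𝒳.p.IsHomLift s α
  hβ : 𝒳.p.IsHomLift t β
  smooth : Smooth t.left
  cov : Cov t
  cover : ∀ {Z : Over S} (w' : 𝒳.p.Fiber Z) {g : Z ⟶ U} {h : Z ⟶ T} (p : w'.1 ⟶ x₀.1) (q : w'.1 ⟶ z.1),
    𝒳.p.IsHomLift g p → 𝒳.p.IsHomLift h q →
    ∃ (Z' : Over S) (c : Z' ⟶ Z) (r : Z' ⟶ Q) (wZ : 𝒳.p.Fiber Z') (cw : wZ.1 ⟶ w'.1) (k : wZ.1 ⟶ w.1),
      Cov c ∧ 𝒳.p.IsHomLift c cw ∧ 𝒳.p.IsHomLift r k ∧ k ≫ α = cw ≫ p ∧ k ≫ β = cw ≫ q
  rel : ∀ {Z : Over S} (wz : 𝒳.p.Fiber Z) {r r' : Z ⟶ Q} (k k' : wz.1 ⟶ w.1),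
    𝒳.p.IsHomLift r k → 𝒳.p.IsHomLift r' k' → k ≫ α = k' ≫ α → k ≫ β = k' ≫ β →
    ∃ (Q₂ : Over S) (e e' : Q₂ ⟶ Q) (n : Z ⟶ Q₂), Etale e.left ∧ n ≫ e = r ∧ n ≫ e' = r' ∧
      ∃ (w₂ : 𝒳.p.Fiber Q₂) (κ κ' : w₂.1 ⟶ w.1), 𝒳.p.IsHomLift e κ ∧ 𝒳.p.IsHomLift e' κ' ∧
        κ ≫ α = κ' ≫ α ∧ κ ≫ β = κ' ≫ β

lemma lift_eqToHom_comp {A B C : Over S} (e : A = B) {f : A ⟶ C} {a b : 𝒳.obj} {φ : a ⟶ b}
    (h : 𝒳.p.IsHomLift f φ) : 𝒳.p.IsHomLift (eqToHom e.symm ≫ f) φ := by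
  subst e; simpa using h

variable [IsFibGrpd 𝒳.p]

/-- Universal spans exist. -/
theorem nonempty_univ {U : Over S} (x₀ : 𝒳.p.Fiber U)
    (hsm : AlgSt.RepByAlgSpWith (AlgSp.LocP @Smooth) (ofPoint x₀))
    (hsu : AlgSt.RepByAlgSpWith AlgSp.IsSurjectiveMor (ofPoint x₀)) {T : Over S} (z : 𝒳.p.Fiber T) :
    Nonempty (Univ x₀ z) := by
  haveI : IsFibGrpd (overCat U).p := inferInstance
  obtain ⟨H, a, hH, ⟨hs, hu⟩, -, ⟨C⟩⟩ :=
    exists_classifier (repByAlgSpWith_inf good_surjective.bc.precomp_iso hsm hsu) z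
  obtain ⟨Q, q, hq, hqs⟩ := hH.atlas
  obtain ⟨E₀, hE₀⟩ := C.exists_elt q
  have hqa : q ≫ a = (yon S).map E₀.base := by rw [← hE₀, C.cls_comp]
  haveI hsmt : Smooth E₀.base.left :=
    hs q (𝟙 _) E₀.base hq (AlgSpLib.repWith_of_isIso _) (by rw [hqa, Category.comp_id])
  haveI : Surjective E₀.base.left := ⟨fun v => by
    obtain ⟨pt, hpt⟩ := hu (Points.schemeHomeo T v)
    obtain ⟨x, rfl⟩ := AlgSpLib.surjective_ofPt hqs pt
    refine ⟨x, (Points.schemeHomeo T).injective ?_⟩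
    rw [← hpt, Points.map_ofPt, hqa]
    exact ((Points.schemeHomeo T).apply_symm_apply _).symm.trans
      (congrArg _ (Points.toScheme_ofPt E₀.base x)) |>.symm⟩
  let X := ofPoint x₀
  have pml : ∀ {Z : Over S} (g : Z ⟶ U), 𝒳.p.IsHomLift g (IsPreFibered.pullbackMap x₀.2 g) :=
    fun g => inferInstance
  let o : Over U := E₀.obj.1
  have ho : o.left = Q := E₀.obj.2
  obtain ⟨sQ, hsQ⟩ : ∃ sQ : Q ⟶ U, sQ = eqToHom ho.symm ≫ o.hom := ⟨_, rfl⟩
  let w : 𝒳.p.Fiber Q := Fiber.mk (p := 𝒳.p) (a := X.obj o) ((X.w_obj o).trans ho)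
  let α : w.1 ⟶ x₀.1 := IsPreFibered.pullbackMap x₀.2 o.hom
  have hα : 𝒳.p.IsHomLift sQ α := by
    have h := pml o.hom
    rw [hsQ]
    exact lift_eqToHom_comp ho h
  let β : w.1 ⟶ z.1 := E₀.map
  have hβ : 𝒳.p.IsHomLift E₀.base β := E₀.lift
  refine ⟨{ Q := Q, w := w, s := sQ, t := E₀.base, α := α, β := β, hα := hα, hβ := hβ, smooth := hsmt,
            cov := ⟨inferInstance, inferInstance, inferInstance⟩, cover := ?_, rel := ?_ }⟩
  · intro Z w' g h p q' hp hq'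
    obtain ⟨θ, hθ, eθ⟩ := exists_fac p hp (IsPreFibered.pullbackMap x₀.2 g)
      (lift_congr (Category.id_comp g).symm (pml g))
    let E : Elt X z Z :=
      ⟨h, Fiber.mk (p := (overCat U).p) (a := Over.mk g) rfl, θ ≫ q', lift_congr (Category.id_comp h) (comp_lift hθ hq')⟩
    obtain ⟨Z', r, c, sq⟩ := AlgSpLib.exists_isPullback_yon q (C.cls E) hq.rep
    obtain ⟨E', hE'⟩ := exists_pullback_elt c E
    obtain ⟨k₁, hk₁, ek₁⟩ := id hE'
    obtain ⟨k₂, hk₂, ek₂⟩ : EHom r E' E₀ := C.ehom_of_comp (by rw [C.cls_map hE', ← sq.w, hE₀])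
    let o' : Over U := E'.obj.1
    have hpm : ∀ {o₁ o₂ : Over U} (k : o₁ ⟶ o₂),
        X.map k ≫ IsPreFibered.pullbackMap x₀.2 o₂.hom = IsPreFibered.pullbackMap x₀.2 o₁.hom :=
      fun k => pbMap_fac x₀ k.left (Over.w k)
    haveI : Etale c.left := AlgSpLib.etale_left (AlgSpLib.repWith_of_isPullback sq hq)
    haveI : Surjective c.left := AlgSpLib.surjective_left (AlgSpLib.repWith_of_isPullback sq hqs)
    refine ⟨Z', c, r, Fiber.mk (p := 𝒳.p) (a := X.obj o') ((X.w_obj o').trans E'.obj.2), X.map k₁ ≫ θ, X.map k₂,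
      ⟨inferInstance, inferInstance, inferInstance⟩,
      lift_congr (Category.comp_id c) (comp_lift (fun_lift X hk₁) hθ), fun_lift X hk₂, ?_, ?_⟩
    · rw [Category.assoc, eθ]
      exact (hpm k₂).trans (hpm k₁).symm
    · rw [Category.assoc]
      exact ek₂.trans ek₁.symm
  · intro Z wz r r' k k' hk hk' eα eβ
    have hg : r ≫ sQ = r' ≫ sQ := base_comp_eq hk hk' hα hα eα
    obtain ⟨θ, hθ, eθ⟩ := exists_fac (g := 𝟙 Z) (k ≫ α) (comp_lift hk hα)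
      (IsPreFibered.pullbackMap x₀.2 (r ≫ sQ)) (lift_congr (Category.id_comp _).symm (pml _))
    have mk : ∀ (n : Z ⟶ Q) (kn : wz.1 ⟶ w.1), 𝒳.p.IsHomLift n kn → n ≫ sQ = r ≫ sQ → kn ≫ α = k ≫ α →
        kn ≫ β = k ≫ β → EHom (f := X) n ⟨r ≫ E₀.base, Fiber.mk (p := (overCat U).p) (a := Over.mk (r ≫ sQ)) rfl,
          θ ≫ k ≫ β, lift_congr (Category.id_comp _) (comp_lift hθ (comp_lift hk hβ))⟩ E₀ := by
      intro n kn hn en ea eb
      let m : Over.mk (r ≫ sQ) ⟶ o := Over.homMk (n ≫ eqToHom ho.symm) (by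
        rw [Category.assoc, ← hsQ]; exact en)
      have hm : (overCat U).p.IsHomLift n m :=
        IsHomLift.of_fac' (overCat U).p n m rfl ho (by
          change n ≫ eqToHom ho.symm = _
          simp)
      refine ⟨m, hm, ?_⟩
      have e : X.map m = θ ≫ kn := eq_of_fac hα (fun_lift X hm)
        (lift_congr (Category.id_comp n) (comp_lift hθ hn)) (by
          rw [Category.assoc, ea, eθ]
          exact pbMap_fac x₀ m.left (Over.w m))
      change X.map m ≫ β = θ ≫ k ≫ β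
      rw [e, Category.assoc, eb]
    have h₁ := C.cls_map (mk r k hk rfl rfl rfl)
    have h₂ := C.cls_map (mk r' k' hk' hg.symm eα.symm eβ.symm)
    rw [hE₀] at h₁ h₂
    obtain ⟨Q₂, e, e', sq⟩ := AlgSpLib.exists_isPullback_yon q q hq.rep
    obtain ⟨n, hn⟩ := (yon S).map_surjective (sq.lift ((yon S).map r) ((yon S).map r') (h₁.symm.trans h₂))
    have hne : n ≫ e = r := (yon S).map_injective (by rw [Functor.map_comp, hn, sq.lift_fst])
    have hne' : n ≫ e' = r' := (yon S).map_injective (by rw [Functor.map_comp, hn, sq.lift_snd])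
    haveI : Etale e.left := AlgSpLib.etale_left (AlgSpLib.repWith_of_isPullback sq.flip hq)
    obtain ⟨E₁, hE₁⟩ := exists_pullback_elt e E₀
    obtain ⟨E₂, hE₂⟩ := exists_pullback_elt e' E₀
    have hcls : C.cls E₁ = C.cls E₂ := by rw [C.cls_map hE₁, C.cls_map hE₂, hE₀, sq.w]
    obtain ⟨j, hj, ej⟩ := C.ehom_of_eq hcls
    obtain ⟨k₁, hk₁, ek₁⟩ := hE₁
    obtain ⟨k₂, hk₂, ek₂⟩ := hE₂
    have hpm : ∀ {o₁ o₂ : Over U} (k : o₁ ⟶ o₂),
        X.map k ≫ IsPreFibered.pullbackMap x₀.2 o₂.hom = IsPreFibered.pullbackMap x₀.2 o₁.hom :=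
      fun k => pbMap_fac x₀ k.left (Over.w k)
    refine ⟨Q₂, e, e', n, inferInstance, hne, hne',
      Fiber.mk (p := 𝒳.p) (a := X.obj E₁.obj.1) ((X.w_obj _).trans E₁.obj.2), X.map k₁, X.map j ≫ X.map k₂,
      fun_lift X hk₁, lift_congr (Category.id_comp e') (comp_lift (fun_lift X hj) (fun_lift X hk₂)), ?_, ?_⟩
    · rw [Category.assoc]
      exact (hpm k₁).trans ((congrArg (X.map j ≫ ·) (hpm k₂)).trans (hpm j)).symm
    · rw [Category.assoc]
      exact ek₁.trans ((congrArg (X.map j ≫ ·) ek₂).trans ej).symm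

end IsoNatBaldLib
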